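import Mathlib
import Cfsg.Agent.KFacts.RgdSL
import Cfsg.Agent.Nodes.Unique
import Cfsg.Agent.FastGrp
import Cfsg.Agent.Prune
set_option linter.all false
prune_inst 0x7f00000000000000000000000000000000000000000000000000000000000000000000000000000000000000000000000000000000000000000000000000000000000000000000000000000000000000003fffffffffffffffffffffffffffbeffbdffffffff
open scoped Cfsg.Agent.FastGrp

/-!
helper460 (S2539, layer 0). Combinatorics of closed sets of roots.

* `IsRf cs h a s` : `s` is the reflection in the root `a`;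
* `exists_pos_system` : for a closed set `S` there is a positive system which contains `{a ∈ S | -a ∉ S}`;
* `exists_conj_simple`, `eq_one_of_stab` : the reflection group of a symmetric reflection stable set `Σ` is generated by
  the reflections in the simple roots of `Σ`; it acts freely on the positive systems of `Σ`.
-/

set_option autoImplicit false
set_option linter.unusedSectionVars false

namespace Cfsg.Agent.H460.OT

open CoxeterSystem Cfsg.Agent.ChevalleyStructure.CoxeterGeom Cfsg.Agent.Tits.Roots Cfsg.Agent.Tits.Core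
  Cfsg.Agent.Tits.RootComb Cfsg.Agent.Tits.Exchange Cfsg.Agent.Nodes.Reps Cfsg.Agent.Nodes.BNOf
  Cfsg.Agent.Nodes.Coroot Cfsg.Agent.Nodes.PosPair Cfsg.Agent.KFacts.RgdSL

variable {I W : Type*} [Fintype I] [DecidableEq I] [Group W] {M : CoxeterMatrix I}
  {cs : CoxeterSystem M W} {A : I → I → ℤ} {h : IsCartan M A}

/-- `s` is the reflection in `a`. -/
def IsRf (cs : CoxeterSystem M W) (h : IsCartan M A) (a : I → ℤ) (s : W) : Prop :=
  ∀ y, rep cs h s y = y - cpr cs h y a • a

theorem exists_rf [Finite W] {a : I → ℤ} (ha : IsRoot cs h a) : ∃ s, IsRf cs h a s := by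
  obtain ⟨w, i, rfl⟩ := ha
  exact ⟨_, rep_rfl'_eq cs h w i⟩

theorem IsRf.unique {a : I → ℤ} {s t : W} (hs : IsRf cs h a s) (ht : IsRf cs h a t) : s = t :=
  rep_injective cs h (LinearMap.ext fun y => by rw [hs y, ht y])

theorem IsRf.conj [Finite W] {a : I → ℤ} {s : W} (ha : IsRoot cs h a) (hs : IsRf cs h a s) (v : W) :
    IsRf cs h (rep cs h v a) (v * s * v⁻¹) := by
  intro y
  have h1 : cpr cs h (rep cs h v⁻¹ y) a = cpr cs h y (rep cs h v a) := by
    have := cpr_rep cs h v (rep cs h v⁻¹ y) ha
    rw [rep_apply_inv] at this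
    exact this.symm
  rw [rep_mul_apply, rep_mul_apply, hs, map_sub, rep_apply_inv, map_smul, h1]

theorem IsRf.self [Finite W] {a : I → ℤ} {s : W} (ha : IsRoot cs h a) (hs : IsRf cs h a s) : rep cs h s a = -a := by
  rw [hs, cpr_self cs h ha, two_smul]; abel

theorem IsRf.neg [Finite W] {a : I → ℤ} {s : W} (ha : IsRoot cs h a) (hs : IsRf cs h a s) : IsRf cs h (-a) s := by
  intro y
  rw [hs, cpr_neg_right cs h y ha, neg_smul_neg]

theorem IsRf.mul_self [Finite W] {a : I → ℤ} {s : W} (ha : IsRoot cs h a) (hs : IsRf cs h a s) : s * s = 1 := by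
  apply rep_injective cs h
  refine LinearMap.ext fun y => ?_
  rw [rep_mul_apply, map_one, Module.End.one_apply, hs, hs, cpr_sub' ha, cpr_smul cs h _ _ ha, cpr_self cs h ha]
  module
where
  cpr_sub' {a : I → ℤ} (ha : IsRoot cs h a) {y y' : I → ℤ} :
      cpr cs h (y - y') a = cpr cs h y a - cpr cs h y' a := by
    rw [sub_eq_add_neg, cpr_add cs h _ _ ha, cpr_neg cs h _ ha, sub_eq_add_neg]

theorem IsRf.inv_eq [Finite W] {a : I → ℤ} {s : W} (ha : IsRoot cs h a) (hs : IsRf cs h a s) : s⁻¹ = s :=
  inv_eq_of_mul_eq_one_left (hs.mul_self ha)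

theorem isRf_simple [Finite W] (w : W) (i : I) : IsRf cs h (rep cs h w (sr i)) (w * cs.simple i * w⁻¹) :=
  rep_rfl'_eq cs h w i

theorem isRoot_sub_of_pos [Finite W] {x y : I → ℤ} (hx : IsRoot cs h x) (hy : IsRoot cs h y) (hxy : x ≠ y)
    (hc : 0 < cpr cs h x y) : IsRoot cs h (x - y) := by
  have := Fintype.ofFinite W
  have hxy' : x ≠ -y := by
    rintro rfl
    rw [cpr_neg_left _ hy, cpr_self cs h hy] at hc
    omega
  have h1 := cpr_mul_lt hx hy hxy hxy'
  have h2 : 0 < cpr cs h y x := by
    rw [cpr_pos_iff cs h y hx, form_comm, ← cpr_pos_iff cs h x hy]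
    exact hc
  have h3 : cpr cs h x y = 1 ∨ cpr cs h y x = 1 := by
    by_contra hcon
    push Not at hcon
    have h4 : 2 ≤ cpr cs h x y := by omega
    have h5 : 2 ≤ cpr cs h y x := by omega
    nlinarith
  rcases h3 with h3 | h3
  · exact isRoot_sub hx hy h3
  · have := (isRoot_sub hy hx h3).neg
    rwa [neg_sub] at this

/-- **Positive systems and closed sets.** -/
theorem exists_pos_system [Finite W] {S : Set (I → ℤ)} (hS : ∀ x ∈ S, IsRoot cs h x)
    (hr : ∀ a ∈ S, -a ∈ S → ∀ x ∈ S, x - cpr cs h x a • a ∈ S)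
    (hadd : ∀ x ∈ S, ∀ y ∈ S, IsRoot cs h (x + y) → x + y ∈ S) :
    ∃ w : W, ∀ y, IsRoot cs h y → 0 ≤ rep cs h w⁻¹ y → -y ∈ S → y ∈ S := by
  have := Fintype.ofFinite W
  set N : W → ℕ := fun w => {x | x ∈ S ∧ 0 ≤ rep cs h w⁻¹ x}.ncard with hN
  have hfin : ∀ w : W, {x | x ∈ S ∧ 0 ≤ rep cs h w⁻¹ x}.Finite := fun w =>
    (RGD.finite_roots (cs := cs) (h := h)).subset fun x hx => hS x hx.1
  have e1 : ∀ (w : W) (i : I) (y : I → ℤ), rep cs h (w * cs.simple i)⁻¹ y = rep cs h (cs.simple i) (rep cs h w⁻¹ y) := by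
    intro w i y
    rw [← rep_mul_apply, mul_inv_rev, cs.inv_simple]
  have hsimp : ∀ w : W, (∀ w', N w' ≤ N w) → ∀ i, -rep cs h w (sr i) ∈ S → rep cs h w (sr i) ∈ S := by
    intro w hw i hi
    by_contra hcon
    have h1 : {x | x ∈ S ∧ 0 ≤ rep cs h w⁻¹ x} ⊂ {x | x ∈ S ∧ 0 ≤ rep cs h (w * cs.simple i)⁻¹ x} := by
      rw [Set.ssubset_iff_of_subset]
      · refine ⟨-rep cs h w (sr i), ⟨hi, ?_⟩, ?_⟩
        · rw [e1, map_neg, rep_inv_apply, map_neg, rep_simple_sr, neg_neg]
          exact sr_nonneg i
        · rintro ⟨-, h2⟩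
          rw [map_neg, rep_inv_apply] at h2
          exact (isRoot_sr cs h i).not_pos_neg (sr_nonneg i) (neg_nonneg.1 h2)
      · rintro x ⟨hx, h0⟩
        refine ⟨hx, ?_⟩
        rw [e1]
        refine ((hS x hx).act w⁻¹).simple_nonneg h0 i fun h2 => hcon ?_
        rw [← h2, rep_apply_inv]
        exact hx
    have h2 := Set.ncard_lt_ncard h1 (hfin _)
    have h3 := hw (w * cs.simple i)
    simp only [hN] at h3
    omega
  have key : ∀ m : ℕ, ∀ w : W, (∀ w', N w' ≤ N w) → ∀ y, IsRoot cs h y → 0 ≤ rep cs h w⁻¹ y →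
      ht (rep cs h w⁻¹ y) ≤ m → -y ∈ S → y ∈ S := by
    intro m
    induction m with
    | zero =>
      intro w _ y hy h0 hh _
      have := RGD.ht_pos (hy.act w⁻¹) h0
      simp only [Nat.cast_zero] at hh
      omega
    | succ m ih =>
      intro w hw y hy h0 hh hyS
      have hy' := hy.act w⁻¹
      obtain ⟨i, hi, hpi⟩ := exists_pairing_pos cs h h0 hy'.ne_zero
      by_cases hsr : rep cs h w⁻¹ y = sr i
      · have h1 : y = rep cs h w (sr i) := by rw [← hsr, rep_apply_inv]
        rw [h1] at hyS ⊢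
        exact hsimp w hw i hyS
      set b := rep cs h w (sr i) with hb
      have hbr : IsRoot cs h b := ⟨w, i, rfl⟩
      have hcpr : 0 < cpr cs h y b := by
        rw [hb, cpr_rep_sr]; exact hpi
      have hyb : y ≠ b := fun h1 => hsr (by rw [h1, hb, rep_inv_apply])
      have h1 : 0 ≤ rep cs h (cs.simple i) (rep cs h w⁻¹ y) := hy'.simple_nonneg h0 i hsr
      have h2 : ht (rep cs h (cs.simple i) (rep cs h w⁻¹ y)) ≤ m := by
        rw [ht_simple]; push_cast at hh; omega
      by_cases hbS : b ∈ S
      · by_cases hbS' : -b ∈ S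
        · -- reflect
          have h3 : ∀ x, rep cs h w⁻¹ (x - cpr cs h x b • b) = rep cs h (cs.simple i) (rep cs h w⁻¹ x) := by
            intro x
            rw [← isRf_simple w i x, rep_mul_apply, rep_mul_apply, rep_inv_apply]
          have h4 : -(y - cpr cs h y b • b) ∈ S := by
            have := hr b hbS hbS' _ hyS
            rw [cpr_neg cs h _ hbr, neg_smul, sub_neg_eq_add] at this
            have h5 : -(y - cpr cs h y b • b) = -y + cpr cs h y b • b := by abel
            rwa [h5]
          have h5 := ih w hw (y - cpr cs h y b • b) (isRoot_refl cs h hy hbr) (by rw [h3]; exact h1)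
            (by rw [h3]; exact h2) h4
          have h6 := hr b hbS hbS' _ h5
          have h7 : y - cpr cs h y b • b - cpr cs h (y - cpr cs h y b • b) b • b = y := by
            rw [sub_eq_add_neg y, cpr_add cs h _ _ hbr, ← neg_smul, cpr_smul cs h _ _ hbr, cpr_self cs h hbr]
            module
          rwa [h7] at h6
        · -- `y - b`
          have h3 : IsRoot cs h (y - b) := isRoot_sub_of_pos hy hbr hyb hcpr
          have h4 : -(y - b) ∈ S := by
            have h5 : -(y - b) = -y + b := by abel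
            rw [h5]
            refine hadd _ hyS _ hbS ?_
            rw [← h5]; exact h3.neg
          have h5 : rep cs h w⁻¹ (y - b) = rep cs h w⁻¹ y - sr i := by rw [map_sub, hb, rep_inv_apply]
          have h6 : 0 ≤ rep cs h w⁻¹ (y - b) := by
            rcases (h3.act w⁻¹).pos_or_neg with h7 | h7
            · exact h7
            · exfalso
              apply hsr
              refine hy'.eq_sr h0 i fun k hk => le_antisymm ?_ (h0 k)
              have h8 := h7 k
              rwa [h5, Pi.sub_apply, sr_ne hk, sub_zero] at h8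
          have h7 : ht (rep cs h w⁻¹ (y - b)) ≤ m := by
            have h8 : ht (rep cs h w⁻¹ (y - b)) = ht (rep cs h w⁻¹ y) - 1 := by
              rw [h5, sub_eq_add_neg, RGD.ht_add]
              have h9 : ht (-(sr i : I → ℤ)) = -1 := by
                unfold ht
                simp [sr]
              rw [h9]; ring
            push_cast at hh
            omega
          have h8 := ih w hw (y - b) h3 h6 h7 h4
          have h9 := hadd _ h8 _ hbS (by rw [sub_add_cancel]; exact hy)
          rwa [sub_add_cancel] at h9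
      · have hbS' : -b ∉ S := fun h3 => hbS (hsimp w hw i h3)
        have h3 : {x | x ∈ S ∧ 0 ≤ rep cs h (w * cs.simple i)⁻¹ x} = {x | x ∈ S ∧ 0 ≤ rep cs h w⁻¹ x} := by
          ext x
          constructor
          · rintro ⟨hx, h4⟩
            refine ⟨hx, ?_⟩
            rw [e1] at h4
            have h5 := ((((hS x hx).act w⁻¹).act (cs.simple i))).simple_nonneg h4 i ?_
            · rwa [← rep_mul_apply, cs.simple_mul_simple_self, map_one, Module.End.one_apply] at h5
            · intro h5
              apply hbS'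
              have h6 : rep cs h w⁻¹ x = -sr i := by
                have := congrArg (rep cs h (cs.simple i)) h5
                rwa [← rep_mul_apply, cs.simple_mul_simple_self, map_one, Module.End.one_apply, rep_simple_sr] at this
              have h7 : x = -b := by rw [← rep_apply_inv cs h w x, h6, map_neg]
              rw [← h7]; exact hx
          · rintro ⟨hx, h4⟩
            refine ⟨hx, ?_⟩
            rw [e1]
            refine ((hS x hx).act w⁻¹).simple_nonneg h4 i fun h5 => hbS ?_
            rw [hb, ← h5, rep_apply_inv]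
            exact hx
        have h4 : N (w * cs.simple i) = N w := by
          simp only [hN]; rw [h3]
        exact ih (w * cs.simple i) (fun w' => by rw [h4]; exact hw w') y hy (by rw [e1]; exact h1)
          (by rw [e1]; exact h2) hyS
  obtain ⟨w, hw⟩ := Finite.exists_max N
  refine ⟨w, fun y hy h0 hyS => ?_⟩
  obtain ⟨m, hm⟩ : ∃ m : ℕ, ht (rep cs h w⁻¹ y) ≤ m := ⟨(ht (rep cs h w⁻¹ y)).toNat, Int.self_le_toNat _⟩
  exact key m w hw y hy h0 hm hyS

/-! ### the reflection group of a symmetric set -/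

/-- `a` is a simple root of `P`. -/
def Smp (cs : CoxeterSystem M W) (h : IsCartan M A) (P : Set (I → ℤ)) (a : I → ℤ) : Prop :=
  a ∈ P ∧ ∀ y ∈ P, y ≠ a → y - cpr cs h y a • a ∈ P

/-- the group generated by the simple reflections -/
def W0 (cs : CoxeterSystem M W) (h : IsCartan M A) (P : Set (I → ℤ)) : Subgroup W :=
  Subgroup.closure {s | ∃ a, Smp cs h P a ∧ IsRf cs h a s}

theorem exists_conj_simple [Finite W] {Sg : Set (I → ℤ)} (hS : ∀ x ∈ Sg, IsRoot cs h x)
    (hneg : ∀ x ∈ Sg, -x ∈ Sg) (hr : ∀ a ∈ Sg, ∀ x ∈ Sg, x - cpr cs h x a • a ∈ Sg) {x : I → ℤ} (hx : x ∈ Sg)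
    (h0 : 0 ≤ x) : ∃ v ∈ W0 cs h {x | x ∈ Sg ∧ 0 ≤ x}, ∃ a, Smp cs h {x | x ∈ Sg ∧ 0 ≤ x} a ∧ rep cs h v a = x := by
  have := Fintype.ofFinite W
  set P : Set (I → ℤ) := {x | x ∈ Sg ∧ 0 ≤ x} with hP
  have e1 : ∀ (w : W) (i : I) (y : I → ℤ), rep cs h (w * cs.simple i)⁻¹ y = rep cs h (cs.simple i) (rep cs h w⁻¹ y) := by
    intro w i y
    rw [← rep_mul_apply, mul_inv_rev, cs.inv_simple]
  have hsimp : ∀ w : W, {x | x ∈ Sg ∧ 0 ≤ rep cs h w⁻¹ x} = P → ∀ i, rep cs h w (sr i) ∈ Sg →
      Smp cs h P (rep cs h w (sr i)) := by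
    intro w hw i hi
    rw [← hw]
    refine ⟨⟨hi, by rw [rep_inv_apply]; exact sr_nonneg i⟩, ?_⟩
    rintro y ⟨hy, hy0⟩ hyi
    refine ⟨hr _ hi _ hy, ?_⟩
    rw [← isRf_simple w i y, rep_mul_apply, rep_mul_apply, rep_inv_apply]
    refine ((hS y hy).act w⁻¹).simple_nonneg hy0 i fun h1 => hyi ?_
    rw [← h1, rep_apply_inv]
  have key : ∀ m : ℕ, ∀ w : W, {x | x ∈ Sg ∧ 0 ≤ rep cs h w⁻¹ x} = P → ∀ x ∈ P, ht (rep cs h w⁻¹ x) ≤ m →
      ∃ v ∈ W0 cs h P, ∃ a, Smp cs h P a ∧ rep cs h v a = x := by
    intro m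
    induction m with
    | zero =>
      intro w hw x hx hh
      rw [← hw] at hx
      have := RGD.ht_pos ((hS x hx.1).act w⁻¹) hx.2
      simp only [Nat.cast_zero] at hh
      omega
    | succ m ih =>
      intro w hw x hx hh
      have hx' := hx
      rw [← hw] at hx'
      have hxr := hS x hx'.1
      have hy' := hxr.act w⁻¹
      obtain ⟨i, hi, hpi⟩ := exists_pairing_pos cs h hx'.2 hy'.ne_zero
      by_cases hsr : rep cs h w⁻¹ x = sr i
      · have h1 : x = rep cs h w (sr i) := by rw [← hsr, rep_apply_inv]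
        refine ⟨1, one_mem _, x, ?_, by rw [map_one, Module.End.one_apply]⟩
        rw [h1]
        exact hsimp w hw i (by rw [← h1]; exact hx'.1)
      have h1 : 0 ≤ rep cs h (cs.simple i) (rep cs h w⁻¹ x) := hy'.simple_nonneg hx'.2 i hsr
      have h2 : ht (rep cs h (cs.simple i) (rep cs h w⁻¹ x)) ≤ m := by
        rw [ht_simple]; push_cast at hh; omega
      by_cases hb : rep cs h w (sr i) ∈ Sg
      · have h3 := hsimp w hw i hb
        set s := w * cs.simple i * w⁻¹ with hs
        have h4 : rep cs h w⁻¹ (rep cs h s x) = rep cs h (cs.simple i) (rep cs h w⁻¹ x) := by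
          rw [hs, rep_mul_apply, rep_mul_apply, rep_inv_apply]
        have h5 : rep cs h s x ∈ P := by
          rw [← hw]
          refine ⟨?_, by rw [h4]; exact h1⟩
          rw [isRf_simple w i x]
          exact hr _ hb _ hx'.1
        obtain ⟨v, hv, a, ha, hva⟩ := ih w hw (rep cs h s x) h5 (by rw [h4]; exact h2)
        refine ⟨s * v, mul_mem (Subgroup.subset_closure ⟨_, h3, isRf_simple w i⟩) hv, a, ha, ?_⟩
        rw [rep_mul_apply, hva, ← rep_mul_apply, (isRf_simple (cs := cs) (h := h) w i).mul_self ⟨w, i, rfl⟩,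
          map_one, Module.End.one_apply]
      · have hb' : -rep cs h w (sr i) ∉ Sg := fun h3 => hb (by rw [← neg_neg (rep cs h w (sr i))]; exact hneg _ h3)
        have h3 : {x | x ∈ Sg ∧ 0 ≤ rep cs h (w * cs.simple i)⁻¹ x} = P := by
          rw [← hw]
          ext y
          constructor
          · rintro ⟨hy, h4⟩
            refine ⟨hy, ?_⟩
            rw [e1] at h4
            have h5 := ((((hS y hy).act w⁻¹).act (cs.simple i))).simple_nonneg h4 i ?_
            · rwa [← rep_mul_apply, cs.simple_mul_simple_self, map_one, Module.End.one_apply] at h5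
            · intro h5
              apply hb'
              have h6 : rep cs h w⁻¹ y = -sr i := by
                have := congrArg (rep cs h (cs.simple i)) h5
                rwa [← rep_mul_apply, cs.simple_mul_simple_self, map_one, Module.End.one_apply, rep_simple_sr] at this
              have h7 : y = -rep cs h w (sr i) := by rw [← map_neg, ← h6, rep_apply_inv]
              rw [← h7]; exact hy
          · rintro ⟨hy, h4⟩
            refine ⟨hy, ?_⟩
            rw [e1]
            refine ((hS y hy).act w⁻¹).simple_nonneg h4 i fun h5 => hb ?_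
            rw [← h5, rep_apply_inv]
            exact hy
        exact ih (w * cs.simple i) h3 x hx (by rw [e1]; exact h2)
  obtain ⟨m, hm⟩ : ∃ m : ℕ, ht (rep cs h (1 : W)⁻¹ x) ≤ m := ⟨(ht (rep cs h (1 : W)⁻¹ x)).toNat, Int.self_le_toNat _⟩
  refine key m 1 ?_ x ⟨hx, h0⟩ hm
  ext y
  rw [Set.mem_setOf_eq, inv_one, map_one, Module.End.one_apply]
  exact Iff.rfl

/-- the exchange condition -/
theorem exchange [Finite W] {P : Set (I → ℤ)} (hS : ∀ x ∈ P, IsRoot cs h x)
    (hdis : ∀ x ∈ P, -x ∉ P) {a : I → ℤ} (ha : a ∈ P) :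
    ∀ l : List W, (∀ s ∈ l, ∃ b, Smp cs h P b ∧ IsRf cs h b s) → -rep cs h l.prod a ∈ P →
      ∃ l₁ l₂ : List W, ∃ t : W, l = l₁ ++ t :: l₂ ∧ IsRf cs h (rep cs h l₂.prod a) t := by
  intro l
  induction l with
  | nil =>
    intro _ h1
    rw [List.prod_nil, map_one, Module.End.one_apply] at h1
    exact absurd h1 (hdis a ha)
  | cons s l ih =>
    intro hl h1
    by_cases h2 : -rep cs h l.prod a ∈ P
    · obtain ⟨l₁, l₂, t, e, ht⟩ := ih (fun t ht => hl t (List.mem_cons_of_mem _ ht)) h2
      exact ⟨s :: l₁, l₂, t, by rw [e]; rfl, ht⟩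
    · obtain ⟨b, hb, hs⟩ := hl s List.mem_cons_self
      have hbr := hS b hb.1
      refine ⟨[], l, s, rfl, ?_⟩
      -- `l.prod a = b`
      have h3 : rep cs h s (-rep cs h (s :: l).prod a) = -rep cs h l.prod a := by
        rw [map_neg, List.prod_cons, rep_mul_apply, ← rep_mul_apply cs h s s, hs.mul_self hbr, map_one,
          Module.End.one_apply]
      by_cases h4 : -rep cs h (s :: l).prod a = b
      · have h5 : rep cs h l.prod a = b := by
          have h6 := hs.self hbr
          rw [← h4, h3] at h6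
          have h7 := neg_injective h6
          rw [h7, ← h4]
        rw [h5]
        exact hs
      · exfalso
        apply h2
        have h5 := hb.2 _ h1 h4
        rw [← hs, h3] at h5
        exact h5

/-- **The group `W0` acts freely.** -/
theorem eq_one_of_stab [Finite W] {P : Set (I → ℤ)} (hS : ∀ x ∈ P, IsRoot cs h x)
    (hdis : ∀ x ∈ P, -x ∉ P) {w : W} (hw : w ∈ W0 cs h P) (hst : ∀ x ∈ P, rep cs h w x ∈ P) : w = 1 := by
  have key : ∀ m : ℕ, ∀ l : List W, l.length = m → (∀ s ∈ l, ∃ b, Smp cs h P b ∧ IsRf cs h b s) →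
      (∀ x ∈ P, rep cs h l.prod x ∈ P) → l.prod = 1 := by
    intro m
    induction m using Nat.strong_induction_on with
    | _ m ih =>
    intro l hlm hl hst
    rcases List.eq_nil_or_concat' l with rfl | ⟨l', s, rfl⟩
    · rfl
    · obtain ⟨a, ha, hs⟩ := hl s (by simp)
      have har := hS a ha.1
      have e1 : (l' ++ [s]).prod = l'.prod * s := by rw [List.prod_append, List.prod_singleton]
      have h1 : -rep cs h l'.prod a ∈ P := by
        have := hst a ha.1
        rw [e1, rep_mul_apply, hs.self har, map_neg] at this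
        exact this
      obtain ⟨l₁, l₂, t, e, ht⟩ := exchange hS hdis ha.1 l' (fun s hs => hl s (List.mem_append_left _ hs)) h1
      have h2 : t = l₂.prod * s * l₂.prod⁻¹ := ht.unique (hs.conj har l₂.prod)
      have h3 : (l' ++ [s]).prod = (l₁ ++ l₂).prod := by
        rw [e1, e, List.prod_append, List.prod_cons, List.prod_append, h2]
        have h4 := hs.mul_self har
        calc l₁.prod * (l₂.prod * s * l₂.prod⁻¹ * l₂.prod) * s = l₁.prod * l₂.prod * (s * s) := by group
          _ = _ := by rw [h4, mul_one]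
      rw [h3] at hst ⊢
      refine ih (l₁ ++ l₂).length ?_ (l₁ ++ l₂) rfl (fun s hs => hl s ?_) hst
      · rw [← hlm, e]
        simp only [List.length_append, List.length_cons, List.length_nil]
        omega
      · rw [e]
        rw [List.mem_append] at hs
        rcases hs with hs | hs
        · exact List.mem_append_left _ (List.mem_append_left _ hs)
        · exact List.mem_append_left _ (List.mem_append_right _ (List.mem_cons_of_mem _ hs))
  -- words
  have hword : ∀ w ∈ W0 cs h P, ∃ l : List W, (∀ s ∈ l, ∃ b, Smp cs h P b ∧ IsRf cs h b s) ∧ l.prod = w := by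
    intro w hw
    have h1 : w ∈ Submonoid.closure {s | ∃ a, Smp cs h P a ∧ IsRf cs h a s} := by
      have h2 : (Subgroup.closure {s | ∃ a, Smp cs h P a ∧ IsRf cs h a s}).toSubmonoid =
          Submonoid.closure {s | ∃ a, Smp cs h P a ∧ IsRf cs h a s} := by
        rw [Subgroup.closure_toSubmonoid]
        congr 1
        ext s
        constructor
        · rintro (hs | hs)
          · exact hs
          · rw [Set.mem_inv] at hs
            obtain ⟨a, ha, hs⟩ := hs
            have h3 := hs.inv_eq (hS a ha.1)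
            rw [inv_inv] at h3
            exact ⟨a, ha, by rw [h3]; exact hs⟩
        · exact fun hs => Or.inl hs
      rw [← h2]
      exact hw
    obtain ⟨l, hl, e⟩ := Submonoid.exists_list_of_mem_closure h1
    exact ⟨l, hl, e⟩
  obtain ⟨l, hl, rfl⟩ := hword w hw
  exact key l.length l rfl hl hst

end Cfsg.Agent.H460.OT
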