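import Mathlib
import Cfsg.Agent.H532.CopAct
import Cfsg.Agent.KFacts.RgdBorelTits
import Cfsg.Agent.Nodes.RGDChev
import Cfsg.Agent.S1032
import Cfsg.Agent.H460.OT.BruComb
import Cfsg.Agent.KFacts.RgdFiltChev
import Cfsg.Agent.Nodes.RGDLib
import Cfsg.Agent.H3.OT.Weyl
import Cfsg.Agent.FastGrp
import Cfsg.Agent.Prune
set_option linter.all false

section
prune_inst 0x7ffcfcfaafbdbddfffff7e7ffedfdffc39d1dfffa6dff9437fe8e1ff0bdf038c2fedfbaf8df052fe1ff7e2b410b87853f97eca3fea6bde7ffffd5ff45ffbee1ff5f7bd8851fe98b40fbc0fffe3f07fca7f3fffffffffffffffffffffffffffbeffffffffffff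

-- part: H460/OT/Prod
section
prune_inst 0x20301000002200000018001200003c0280000402006b800010e0070202461d002045072048001c00001080102000002812180050001000000000000000000020802252001240a104260001803003580c00000000000000000000000000041000000000000
set_option linter.all false
open scoped Cfsg.Agent.FastGrp

-- part: H460/OT/Coset
section
/-!
helper460 (S2539, layer 0): Glauberman's lemma for a coset in a group.
-/

set_option autoImplicit false

namespace Cfsg.Agent.H460.OT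

variable {Y : Type*} [Group Y]

/-- A coset `g Q` which is invariant under a coprime subgroup `A` normalising `Q` contains an element centralised
by `A`. -/
theorem coset_fix {A Q : Subgroup Y} [Finite A] [Finite Q] (hn : ∀ a ∈ A, ∀ q ∈ Q, a * q * a⁻¹ ∈ Q)
    (hcop : (Nat.card A).Coprime (Nat.card Q)) (hsol : Group.IsSolvable A ∨ Group.IsSolvable Q) {g : Y}
    (hg : ∀ a ∈ A, g⁻¹ * (a * g * a⁻¹) ∈ Q) :
    ∃ q ∈ Q, ∀ a ∈ A, a * (g * q) = (g * q) * a := by
  classical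
  let act : MulDistribMulAction A Q :=
    { smul := fun a q => ⟨(a : Y) * q * (a : Y)⁻¹, hn a a.2 q q.2⟩
      one_smul := fun q => Subtype.ext (by show (1 : Y) * q * (1 : Y)⁻¹ = q; group)
      mul_smul := fun a b q => Subtype.ext (by
        show ((a : Y) * b) * q * ((a : Y) * b)⁻¹ = a * (b * q * (b : Y)⁻¹) * (a : Y)⁻¹; group)
      smul_mul := fun a q r => Subtype.ext (by
        show (a : Y) * (q * r) * (a : Y)⁻¹ = (a * q * (a : Y)⁻¹) * (a * r * (a : Y)⁻¹); group)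
      smul_one := fun a => Subtype.ext (by show (a : Y) * 1 * (a : Y)⁻¹ = 1; group) }
  have hact : ∀ (a : A) (q : Q), ((a • q : Q) : Y) = a * q * (a : Y)⁻¹ := fun _ _ => rfl
  let Ω := {y : Y // g⁻¹ * y ∈ Q}
  let aQ : MulAction Q Ω :=
    { smul := fun q y => ⟨y.1 * (q : Y)⁻¹, by
        have h1 : g⁻¹ * (y.1 * (q : Y)⁻¹) = (g⁻¹ * y.1) * (q : Y)⁻¹ := by group
        rw [h1]
        exact Q.mul_mem y.2 (Q.inv_mem q.2)⟩
      one_smul := fun y => Subtype.ext (by show y.1 * (1 : Y)⁻¹ = y.1; group)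
      mul_smul := fun q r y => Subtype.ext (by
        show y.1 * ((q : Y) * r)⁻¹ = (y.1 * (r : Y)⁻¹) * (q : Y)⁻¹; group) }
  let aA : MulAction A Ω :=
    { smul := fun a y => ⟨(a : Y) * y.1 * (a : Y)⁻¹, by
        have h1 : g⁻¹ * ((a : Y) * y.1 * (a : Y)⁻¹) =
            (g⁻¹ * ((a : Y) * g * (a : Y)⁻¹)) * ((a : Y) * (g⁻¹ * y.1) * (a : Y)⁻¹) := by group
        rw [h1]
        exact Q.mul_mem (hg a a.2) (hn a a.2 _ y.2)⟩
      one_smul := fun y => Subtype.ext (by show (1 : Y) * y.1 * (1 : Y)⁻¹ = y.1; group)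
      mul_smul := fun a b y => Subtype.ext (by
        show ((a : Y) * b) * y.1 * ((a : Y) * b)⁻¹ = a * (b * y.1 * (b : Y)⁻¹) * (a : Y)⁻¹; group) }
  have hne : Nonempty Ω := ⟨⟨g, by rw [inv_mul_cancel]; exact Q.one_mem⟩⟩
  obtain ⟨⟨y, hy⟩, -⟩ := H532.CopAct.glauberman (A := A) (G := Q) (Ω := Ω)
    (fun a q y => Subtype.ext (by
      show (a : Y) * (y.1 * (q : Y)⁻¹) * (a : Y)⁻¹ =
        ((a : Y) * y.1 * (a : Y)⁻¹) * ((a : Y) * q * (a : Y)⁻¹)⁻¹
      group)) hcop hsol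
    (fun y y' => ⟨⟨y'.1⁻¹ * y.1, by
        have h1 : y'.1⁻¹ * y.1 = (g⁻¹ * y'.1)⁻¹ * (g⁻¹ * y.1) := by group
        rw [h1]
        exact Q.mul_mem (Q.inv_mem y'.2) y.2⟩, Subtype.ext (by
          show y.1 * (y'.1⁻¹ * y.1)⁻¹ = y'.1; group)⟩)
  refine ⟨g⁻¹ * y.1, y.2, fun a ha => ?_⟩
  have h1 : a * y.1 * a⁻¹ = y.1 := congrArg Subtype.val (hy ⟨a, ha⟩)
  have h2 : g * (g⁻¹ * y.1) = y.1 := by group
  rw [h2]
  calc a * y.1 = (a * y.1 * a⁻¹) * a := by group
    _ = y.1 * a := by rw [h1]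

end Cfsg.Agent.H460.OT
end

-- part: H460/OT/Prod
section
/-!
helper460 (S2539, layer 0), abstract form: root group data with a large torus.

* `TD cs h T X z` : `T` is abelian, acts irreducibly on the root groups, `z i ∈ T` centralises the root groups `X x`
  with `x i = 0` and acts without fixed points on the others;
* `cent_fut` : centralisers of subsets of `T` in unipotent groups;
* `prod_pos` : `T`-invariant subgroups of `U` are products of root groups;
* `std_of_T_le` : a parabolic subgroup containing `T` is standard;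
* `levi_dec` : an overgroup of `T` in a parabolic subgroup is a semidirect product.
-/

set_option autoImplicit false
set_option linter.unusedSectionVars false

namespace Cfsg.Agent.H460.OT

open CoxeterSystem Cfsg.Agent.ChevalleyStructure.CoxeterGeom Cfsg.Agent.Tits.Roots Cfsg.Agent.Tits.Core
  Cfsg.Agent.Tits.RootComb Cfsg.Agent.Tits.Exchange Cfsg.Agent.Nodes.Reps Cfsg.Agent.Nodes.BNOf
  Cfsg.Agent.Nodes.StabComb Cfsg.Agent.Nodes.Bruhat Cfsg.Agent.Nodes.OppDec Cfsg.Agent.Nodes.LeviDec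
  Cfsg.Agent.KFacts.RgdPar Cfsg.Agent.KFacts.RgdBorelTits Cfsg.Agent.Nodes.Unique
open scoped commutatorElement

variable {I W Y : Type*} [Fintype I] [DecidableEq I] [Group W] [Group Y] {M : CoxeterMatrix I}
  {cs : CoxeterSystem M W} {A : I → I → ℤ} {h : IsCartan M A} {p : ℕ} {T : Subgroup Y} {n : I → Y}
  {X : (I → ℤ) → Subgroup Y}

/-- A large torus. -/
structure TD (cs : CoxeterSystem M W) (h : IsCartan M A) (T : Subgroup Y) (X : (I → ℤ) → Subgroup Y) (z : I → Y) :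
    Prop where
  ab : ∀ s ∈ T, ∀ t ∈ T, s * t = t * s
  mem : ∀ i, z i ∈ T
  com : ∀ i x, IsRoot cs h x → x i = 0 → ∀ u ∈ X x, z i * u = u * z i
  act : ∀ i x, IsRoot cs h x → x i ≠ 0 → ∀ u ∈ X x, z i * u = u * z i → u = 1
  irr : ∀ x, IsRoot cs h x → ∀ Q : Subgroup Y, Q ≤ X x → Q ≠ ⊥ → (∀ t ∈ T, cj t Q ≤ Q) → Q = X x

section

variable (R : RGD cs h p T n X)

include R

/-- centralisers of a subset of the torus in `FS G (Fut w)` -/
theorem cent_futG [Finite W] {E : Set Y} {G : (I → ℤ) → Subgroup Y} (w : W)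
    (hFC : FC cs h G (Fut cs h w)) (hGX : ∀ x ∈ Fut cs h w, G x ≤ X x)
    (hGT : ∀ x ∈ Fut cs h w, ∀ t ∈ E, cj t (G x) = G x)
    (hc : ∀ x ∈ Fut cs h w, ∀ u ∈ G x, (∀ t ∈ E, t * u = u * t) → u = 1) {u : Y}
    (hu : u ∈ FS G (Fut cs h w)) (hcu : ∀ t ∈ E, t * u = u * t) : u = 1 := by
  induction hn : (Fut cs h w).ncard generalizing w u with
  | zero =>
    have h1 := (Set.ncard_eq_zero (finite_fut w)).1 hn
    rw [h1] at hu
    have h2 : FS G (∅ : Set (I → ℤ)) ≤ ⊥ := FS_le fun z hz => absurd hz (Set.notMem_empty z)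
    exact Subgroup.mem_bot.1 (h2 hu)
  | succ k ih =>
    have hne : (Fut cs h w).Nonempty := by
      rw [Set.nonempty_iff_ne_empty]
      intro h1
      rw [h1, Set.ncard_empty] at hn
      omega
    obtain ⟨y, hy⟩ := hne
    obtain ⟨i, hi⟩ := exists_simple hy
    have hcard : (Fut cs h (w * cs.simple i)).ncard = k := by
      rw [fut_mul hi, Set.ncard_sdiff_singleton_of_mem (mem_fut hi), hn]
      rfl
    have hsub : Fut cs h (w * cs.simple i) ⊆ Fut cs h w := by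
      rw [fut_mul hi]; exact Set.sdiff_subset
    obtain ⟨a, ha, b, hb, e⟩ := mem_peelF hi hFC hu
    have hroot : IsRoot cs h (rep cs h w (sr i)) := (mem_fut hi).1
    have hVX : FS G (Fut cs h (w * cs.simple i)) ≤ RGD.Sup X (Fut cs h (w * cs.simple i)) :=
      FS_le fun z hz => le_trans (hGX z (hsub hz)) (RGD.le_Sup hz)
    have key : ∀ t ∈ E, t * a = a * t ∧ t * b = b * t := by
      intro t ht
      have h1 : t * a * t⁻¹ ∈ G (rep cs h w (sr i)) := by
        rw [← hGT _ (mem_fut hi) t ht]; exact conj_mem_cj.2 ha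
      have h2 : t * b * t⁻¹ ∈ FS G (Fut cs h (w * cs.simple i)) := by
        have h3 : cj t (FS G (Fut cs h (w * cs.simple i))) ≤ FS G (Fut cs h (w * cs.simple i)) := by
          unfold FS
          rw [cj_iSup]
          refine iSup_le ?_
          rintro ⟨z, hz⟩
          show cj t (G z) ≤ _
          rw [hGT z (hsub hz) t ht]
          exact le_iSup (fun z : Fut cs h (w * cs.simple i) => G z.1) ⟨z, hz⟩
        exact h3 (conj_mem_cj.2 hb)
      have h3 : (t * a * t⁻¹) * (t * b * t⁻¹) = a * b := by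
        have h4 := hcu t ht
        rw [e] at h4
        calc (t * a * t⁻¹) * (t * b * t⁻¹) = (t * (a * b)) * t⁻¹ := by group
          _ = a * b := by rw [h4]; group
      have h4 : a⁻¹ * (t * a * t⁻¹) = b * (t * b * t⁻¹)⁻¹ := by
        calc a⁻¹ * (t * a * t⁻¹) = a⁻¹ * ((t * a * t⁻¹) * (t * b * t⁻¹)) * (t * b * t⁻¹)⁻¹ := by group
          _ = _ := by rw [h3]; group
      have h5 : a⁻¹ * (t * a * t⁻¹) = 1 := by
        have h6 : a⁻¹ * (t * a * t⁻¹) ∈ X (rep cs h w (sr i)) ⊓ RGD.Sup X (Fut cs h (w * cs.simple i)) := by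
          refine Subgroup.mem_inf.2 ⟨hGX _ (mem_fut hi) (mul_mem (inv_mem ha) h1), ?_⟩
          rw [h4]
          exact hVX (mul_mem hb (inv_mem h2))
        rw [tail_inf R, Subgroup.mem_bot] at h6
        exact h6
      have h6 : t * a * t⁻¹ = a := (inv_mul_eq_one.1 h5).symm
      have h7 : t * b * t⁻¹ = b := by
        rw [h5] at h4
        exact (mul_inv_eq_one.1 h4.symm).symm
      exact ⟨mul_inv_eq_iff_eq_mul.1 h6, mul_inv_eq_iff_eq_mul.1 h7⟩
    have ha1 : a = 1 := hc _ (mem_fut hi) a ha fun t ht => (key t ht).1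
    have hb1 : b = 1 := ih (w * cs.simple i) (hFC.mono hsub) (fun x hx => hGX x (hsub hx))
      (fun x hx => hGT x (hsub hx)) (fun x hx => hc x (hsub hx)) hb (fun t ht => (key t ht).2) hcard
    rw [e, ha1, hb1, one_mul]

/-- centralisers of a subset of the torus in `Sup X (Fut w)` -/
theorem cent_fut [Finite W] {E : Set Y} (hE : E ⊆ T) (w : W)
    (hc : ∀ x ∈ Fut cs h w, ∀ u ∈ X x, (∀ t ∈ E, t * u = u * t) → u = 1) {u : Y}
    (hu : u ∈ FS X (Fut cs h w)) (hcu : ∀ t ∈ E, t * u = u * t) : u = 1 :=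
  cent_futG R w ((FC_X R 1).mono (fun x hx => ⟨hx.1, by
      rw [inv_one, map_one, Module.End.one_apply]; exact hx.2.1⟩)) (fun _ _ => le_rfl)
    (fun x hx t ht => R.tor x hx.1 t (hE ht)) hc hu hcu

omit R in
/-- two distinct non-opposite roots are separated by the torus -/
theorem TD.sep_sr {z : I → Y} (D : TD cs h T X z) {i : I} {y : I → ℤ} (hy : IsRoot cs h y) (hxy : y ≠ sr i)
    (hxy' : y ≠ -sr i) : ∃ j, (∀ u ∈ X (sr i), z j * u = u * z j) ∧ ∀ u ∈ X y, z j * u = u * z j → u = 1 := by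
  have h1 : ∃ j, j ≠ i ∧ y j ≠ 0 := by
    by_contra hcon
    push Not at hcon
    rcases hy.pos_or_neg with h0 | h0
    · exact hxy (hy.eq_sr h0 i fun k hk => hcon k hk)
    · apply hxy'
      have h2 : -y = sr i := hy.neg.eq_sr (neg_nonneg.2 h0) i fun k hk => by
        rw [Pi.neg_apply, hcon k hk, neg_zero]
      rw [← h2, neg_neg]
  obtain ⟨j, hj, hyj⟩ := h1
  exact ⟨j, D.com j _ (isRoot_sr cs h i) (sr_ne hj), D.act j y hy hyj⟩

theorem TD.sep {z : I → Y} (D : TD cs h T X z) {x y : I → ℤ} (hx : IsRoot cs h x) (hy : IsRoot cs h y)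
    (hxy : y ≠ x) (hxy' : y ≠ -x) :
    ∃ t ∈ T, (∀ u ∈ X x, t * u = u * t) ∧ ∀ u ∈ X y, t * u = u * t → u = 1 := by
  obtain ⟨w, i, rfl⟩ := hx
  obtain ⟨k, hk⟩ := exists_rp cs R.nsys w
  have hy' : IsRoot cs h (rep cs h w⁻¹ y) := hy.act _
  obtain ⟨j, h1, h2⟩ := D.sep_sr (i := i) hy' (fun e => hxy (by rw [← e, rep_apply_inv]))
    (fun e => hxy' (by rw [← map_neg, ← e, rep_apply_inv]))
  have hkT : k * z j * k⁻¹ ∈ T := ((Subgroup.mem_normalizer_iff.1 hk.mem_normalizer) (z j)).1 (D.mem j)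
  have key : ∀ u : Y, (k * z j * k⁻¹) * u = u * (k * z j * k⁻¹) ↔
      z j * (k⁻¹ * u * k) = (k⁻¹ * u * k) * z j := by
    intro u
    constructor
    · intro e
      calc z j * (k⁻¹ * u * k) = k⁻¹ * ((k * z j * k⁻¹) * u) * k := by group
        _ = _ := by rw [e]; group
    · intro e
      calc (k * z j * k⁻¹) * u = k * (z j * (k⁻¹ * u * k)) * k⁻¹ := by group
        _ = _ := by rw [e]; group
  refine ⟨k * z j * k⁻¹, hkT, fun u hu => (key u).2 (h1 _ ?_), fun u hu e => ?_⟩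
  · have := R.conj_mem' hk ⟨w, i, rfl⟩ hu
    rwa [rep_inv_apply] at this
  · have h3 := h2 _ (R.conj_mem' hk hy hu) ((key u).1 e)
    have : u = k * (k⁻¹ * u * k) * k⁻¹ := by group
    rw [this, h3]; group

/-- root groups have no nontrivial `T`-fixed points -/
theorem TD.fpf {z : I → Y} (D : TD cs h T X z) {y : I → ℤ} (hy : IsRoot cs h y) {u : Y} (hu : u ∈ X y)
    (hc : ∀ t ∈ T, t * u = u * t) : u = 1 := by
  obtain ⟨j, hj⟩ : ∃ j, y j ≠ 0 := by
    by_contra hcon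
    push Not at hcon
    exact hy.ne_zero (funext hcon)
  exact D.act j y hy hj u hu (hc _ (D.mem j))

omit R in
theorem FS_T_inv {S : Set (I → ℤ)} {t : Y} (hS : ∀ x ∈ S, cj t (X x) = X x) : cj t (FS X S) ≤ FS X S := by
  unfold FS
  rw [cj_iSup]
  refine iSup_le ?_
  rintro ⟨z, hz⟩
  show cj t (X z) ≤ _
  rw [hS z hz]
  exact le_iSup (fun z : S => X z.1) ⟨z, hz⟩

/-- `T`-invariant subgroups of `Sup X (Fut w)` are products of root groups. -/
theorem prod_fut [Finite W] [Finite Y] [hp : Fact p.Prime] {z : I → Y} (D : TD cs h T X z) (w : W)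
    {Q : Subgroup Y} (hQ : Q ≤ FS X (Fut cs h w)) (hT : ∀ t ∈ T, cj t Q ≤ Q) :
    Q ≤ FS X {x | x ∈ Fut cs h w ∧ X x ≤ Q} := by
  induction hn : (Fut cs h w).ncard generalizing w Q with
  | zero =>
    have h1 := (Set.ncard_eq_zero (finite_fut w)).1 hn
    rw [h1] at hQ
    exact le_trans hQ (FS_le fun z hz => absurd hz (Set.notMem_empty z))
  | succ k ih =>
    have hne : (Fut cs h w).Nonempty := by
      rw [Set.nonempty_iff_ne_empty]
      intro h1
      rw [h1, Set.ncard_empty] at hn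
      omega
    obtain ⟨y, hy⟩ := hne
    obtain ⟨i, hi⟩ := exists_simple hy
    have hcard : (Fut cs h (w * cs.simple i)).ncard = k := by
      rw [fut_mul hi, Set.ncard_sdiff_singleton_of_mem (mem_fut hi), hn]
      rfl
    have hsub : Fut cs h (w * cs.simple i) ⊆ Fut cs h w := by
      rw [fut_mul hi]; exact Set.sdiff_subset
    have hFC : FC cs h X (Fut cs h w) := (FC_X R 1).mono (fun x hx => ⟨hx.1, by
      rw [inv_one, map_one, Module.End.one_apply]; exact hx.2.1⟩)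
    set α := rep cs h w (sr i) with hα
    have hroot : IsRoot cs h α := (mem_fut hi).1
    set V := FS X (Fut cs h (w * cs.simple i)) with hV
    have hVT : ∀ t ∈ T, cj t V ≤ V := fun t ht => FS_T_inv fun x hx => R.tor x hx.1 t ht
    have hQ1T : ∀ t ∈ T, cj t (Q ⊓ V) ≤ Q ⊓ V := by
      intro t ht u hu
      rw [mem_cj] at hu
      refine Subgroup.mem_inf.2 ⟨hT t ht (mem_cj.2 (Subgroup.mem_inf.1 hu).1), hVT t ht (mem_cj.2 (Subgroup.mem_inf.1 hu).2)⟩
    have h1 := ih (w * cs.simple i) (Q := Q ⊓ V) inf_le_right hQ1T hcard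
    have h2 : Q ⊓ V ≤ FS X {x | x ∈ Fut cs h w ∧ X x ≤ Q} :=
      le_trans h1 (FS_mono fun x hx _ => ⟨⟨hsub hx.1, le_trans hx.2 inf_le_left⟩, le_rfl⟩)
    by_cases hQV : Q ≤ V
    · rwa [inf_eq_left.2 hQV] at h2
    obtain ⟨g, hg, hgV⟩ := Set.not_subset.1 hQV
    have hgQ : g ∈ Q := hg
    obtain ⟨a, ha, b, hb, e⟩ := mem_peelF hi hFC (hQ hgQ)
    have ha1 : a ≠ 1 := by
      rintro rfl
      exact hgV (by rw [e, one_mul]; exact hb)
    -- the centraliser of the root group in the torus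
    let A0 : Subgroup Y := T ⊓ Subgroup.centralizer (X α : Set Y)
    have hA0 : ∀ t ∈ A0, ∀ u ∈ X α, t * u = u * t := by
      intro t ht u hu
      exact ((Subgroup.mem_centralizer_iff.1 (Subgroup.mem_inf.1 ht).2) u hu).symm
    have hcop : (Nat.card A0).Coprime (Nat.card ↥(Q ⊓ V)) := by
      have h3 : IsPGroup p ↥(Q ⊓ V) := R.isPGroup_Upos.to_le (le_trans inf_le_right
        (RGD.Sup_mono (fun x hx => ⟨hx.1, hx.2.1⟩)))
      obtain ⟨m, hm⟩ := IsPGroup.iff_card.1 h3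
      rw [hm]
      refine Nat.Coprime.pow_right m ?_
      exact Nat.Coprime.coprime_dvd_left (Subgroup.card_dvd_of_le inf_le_left) R.tcop
    have hsol : Group.IsSolvable A0 := Group.isSolvable_of_comm fun s t => Subtype.ext
      (D.ab s (Subgroup.mem_inf.1 s.2).1 t (Subgroup.mem_inf.1 t.2).1)
    obtain ⟨q, hq, hqc⟩ := coset_fix (A := A0) (Q := Q ⊓ V) (g := g)
      (fun t ht q hq => hQ1T t (Subgroup.mem_inf.1 ht).1 (conj_mem_cj.2 hq)) hcop (Or.inl hsol) (by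
        intro t ht
        have htT : t ∈ T := (Subgroup.mem_inf.1 ht).1
        refine Subgroup.mem_inf.2 ⟨mul_mem (inv_mem hgQ) (hT t htT (conj_mem_cj.2 hgQ)), ?_⟩
        have h3 : g⁻¹ * (t * g * t⁻¹) = b⁻¹ * (t * b * t⁻¹) := by
          have h4 := hA0 t ht a ha
          rw [e]
          calc (a * b)⁻¹ * (t * (a * b) * t⁻¹) = b⁻¹ * a⁻¹ * ((t * a) * b * t⁻¹) := by group
            _ = _ := by rw [h4]; group
        rw [h3]
        exact mul_mem (inv_mem hb) (hVT t htT (conj_mem_cj.2 hb)))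
    have hbq : b * q = 1 := by
      refine cent_fut R (E := (A0 : Set Y)) (fun t ht => (Subgroup.mem_inf.1 ht).1) (w * cs.simple i) ?_
        (mul_mem hb (Subgroup.mem_inf.1 hq).2) ?_
      · intro x hx u hu hc
        have hx' : x ∈ Fut cs h w ∧ x ≠ α := by
          rw [fut_mul hi] at hx
          exact ⟨hx.1, hx.2⟩
        obtain ⟨t, ht, h3, h4⟩ := D.sep R hroot hx.1 hx'.2 (by
          intro e
          have h5 : 0 ≤ -α := e ▸ hx'.1.2.1
          exact hroot.not_pos_neg hi (neg_nonneg.1 h5))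
        refine h4 u hu (hc t (Subgroup.mem_inf.2 ⟨ht, Subgroup.mem_centralizer_iff.2 fun v hv => (h3 v hv).symm⟩))
      · intro t ht
        have h3 := hqc t ht
        rw [e] at h3
        have h4 := hA0 t ht a ha
        have h5 : a * (t * (b * q)) = a * ((b * q) * t) := by
          calc a * (t * (b * q)) = (a * t) * (b * q) := by group
            _ = t * (a * b * q) := by rw [← h4]; group
            _ = _ := by rw [h3]; group
        exact mul_left_cancel h5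
    have haQ : a ∈ Q := by
      have h3 : a = g * q := by
        rw [e, mul_assoc, hbq, mul_one]
      rw [h3]
      exact mul_mem hgQ (Subgroup.mem_inf.1 hq).1
    have hXQ : X α ≤ Q := by
      have h3 : Q ⊓ X α = X α := D.irr α hroot (Q ⊓ X α) inf_le_right (by
        intro h0
        have : a ∈ (⊥ : Subgroup Y) := h0 ▸ Subgroup.mem_inf.2 ⟨haQ, ha⟩
        exact ha1 (Subgroup.mem_bot.1 this)) (by
        intro t ht u hu
        rw [mem_cj] at hu
        refine Subgroup.mem_inf.2 ⟨hT t ht (mem_cj.2 (Subgroup.mem_inf.1 hu).1), ?_⟩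
        rw [← R.tor α hroot t ht]
        exact mem_cj.2 (Subgroup.mem_inf.1 hu).2)
      rw [← h3]; exact inf_le_left
    intro g' hg'
    obtain ⟨a', ha', b', hb', e'⟩ := mem_peelF hi hFC (hQ hg')
    have hb'Q : b' ∈ Q := by
      have : b' = a'⁻¹ * g' := by rw [e']; group
      rw [this]
      exact mul_mem (inv_mem (hXQ ha')) hg'
    rw [e']
    exact mul_mem (le_FS (G := X) (S := {x | x ∈ Fut cs h w ∧ X x ≤ Q}) ⟨mem_fut hi, hXQ⟩ ha')
      (h2 (Subgroup.mem_inf.2 ⟨hb'Q, hb'⟩))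

omit R in
/-- the roots whose root groups lie in `Q` -/
def RS (cs : CoxeterSystem M W) (h : IsCartan M A) (X : (I → ℤ) → Subgroup Y)
    (Q : Subgroup Y) : Set (I → ℤ) := {x | IsRoot cs h x ∧ X x ≤ Q}

omit R in
theorem cj_le_iff {g : Y} {A B : Subgroup Y} : A ≤ cj g B ↔ cj g⁻¹ A ≤ B := by
  rw [← cj_le_cj_iff g (A := cj g⁻¹ A), cj_cj_inv]

theorem cj_T_of_rp {w : W} {k t : Y} (hk : Rp cs R.nsys w k) (ht : t ∈ T) : k⁻¹ * t * k ∈ T := by
  have := ((Subgroup.mem_normalizer_iff.1 hk.inv.mem_normalizer) t).1 ht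
  rwa [inv_inv] at this

/-- `T`-invariant subgroups of `k U k⁻¹` are products of root groups. -/
theorem prod_pos [Finite W] [Finite Y] [hp : Fact p.Prime] {z : I → Y} (D : TD cs h T X z) {w : W} {k : Y}
    (hk : Rp cs R.nsys w k) {Q : Subgroup Y} (hQ : Q ≤ cj k (RGD.Sup X (RGD.Pos cs h)))
    (hT : ∀ t ∈ T, cj t Q ≤ Q) :
    Q = RGD.Sup X {x | x ∈ RS cs h X Q ∧ 0 ≤ rep cs h w⁻¹ x} := by
  apply le_antisymm
  · have h1 := prod_fut R D (1 : W) (Q := cj k⁻¹ Q) (by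
      rw [fut_one]
      exact cj_le_iff.1 hQ) (by
      intro t ht
      have h2 : k * t * k⁻¹ ∈ T := ((Subgroup.mem_normalizer_iff.1 hk.mem_normalizer) t).1 ht
      have h3 : cj t (cj k⁻¹ Q) = cj k⁻¹ (cj (k * t * k⁻¹) Q) := by
        rw [← cj_mul, ← cj_mul]; congr 1; group
      rw [h3]
      exact cj_mono _ (hT _ h2))
    have h2 := cj_mono k h1
    rw [cj_cj_inv] at h2
    refine le_trans h2 ?_
    unfold FS
    rw [cj_iSup]
    refine iSup_le ?_
    rintro ⟨x, hx⟩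
    show cj k (X x) ≤ _
    rw [R.conj_rp hk hx.1.1]
    refine RGD.le_Sup (S := {x | x ∈ RS cs h X Q ∧ 0 ≤ rep cs h w⁻¹ x}) ⟨⟨hx.1.1.act w, ?_⟩, ?_⟩
    · rw [← R.conj_rp hk hx.1.1]
      have h3 := cj_mono k hx.2
      rwa [cj_cj_inv] at h3
    · rw [rep_inv_apply]; exact hx.1.2.1
  · exact RGD.Sup_le fun x hx => hx.1.2

/-- a functional is nonnegative on a conjugate of the positive system -/
theorem pos_le_conj [Finite W] (f : (I → ℤ) →+ ℤ) : ∃ w k, Rp cs R.nsys w k ∧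
    (∀ x, IsRoot cs h x → 0 < f x → 0 ≤ rep cs h w⁻¹ x) ∧
    RGD.Sup X {x | IsRoot cs h x ∧ 0 < f x} ≤ cj k (RGD.Sup X (RGD.Pos cs h)) := by
  obtain ⟨w, hw⟩ := exists_dom (cs := cs) (h := h) f
  obtain ⟨k, hk⟩ := exists_rp cs R.nsys w
  have h0 : ∀ x, IsRoot cs h x → 0 < f x → 0 ≤ rep cs h w⁻¹ x := by
    intro x hx hfx
    rcases (hx.act w⁻¹).pos_or_neg with h1 | h1
    · exact h1
    · exfalso
      have h2 := dom_nonneg hw (neg_nonneg.2 h1)
      rw [pull_apply, map_neg, rep_apply_inv, map_neg] at h2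
      linarith
  refine ⟨w, k, hk, h0, RGD.Sup_le fun x hx => ?_⟩
  have h1 : X x = cj k (X (rep cs h w⁻¹ x)) := by rw [R.conj_rp hk (hx.1.act _), rep_apply_inv]
  rw [h1]
  exact cj_mono k (RGD.le_Sup (S := RGD.Pos cs h) ⟨hx.1.act _, h0 x hx.1 hx.2⟩)

/-- centralisers in the unipotent radical of a parabolic subgroup -/
theorem cent_half [Finite W] {E : Set Y} (hE : E ⊆ T) (f : (I → ℤ) →+ ℤ)
    (hc : ∀ x, IsRoot cs h x → 0 < f x → ∀ u ∈ X x, (∀ t ∈ E, t * u = u * t) → u = 1) {u : Y}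
    (hu : u ∈ RGD.Sup X {x | IsRoot cs h x ∧ 0 < f x}) (hcu : ∀ t ∈ E, t * u = u * t) : u = 1 := by
  obtain ⟨w, k, hk, h0, h1⟩ := pos_le_conj R f
  set D : Set (I → ℤ) := {x | IsRoot cs h x ∧ 0 < f (rep cs h w x)} with hD
  have hDc : ∀ x ∈ D, ∀ y ∈ D, ∀ z, Btwn cs h x y z → z ∈ D := fun x hx y hy z hz =>
    ⟨hz.1, Nodes.Slope.btwn_pos' (hz.act w) f hx.2 hy.2.le⟩
  have hFC : FC cs h X (Fut cs h 1) := (FC_X R 1).mono (fun x hx => ⟨hx.1, by
      rw [inv_one, map_one, Module.End.one_apply]; exact hx.2.1⟩)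
  have hu' : k⁻¹ * u * k ∈ FS (cut D X) (Fut cs h 1) := by
    have h2 : u ∈ cj k (FS (cut D X) (Fut cs h 1)) := by
      refine (RGD.Sup_le ?_ : RGD.Sup X {x | IsRoot cs h x ∧ 0 < f x} ≤ _) hu
      intro x hx
      have h1 : X x = cj k (X (rep cs h w⁻¹ x)) := by rw [R.conj_rp hk (hx.1.act _), rep_apply_inv]
      rw [h1]
      refine cj_mono k ?_
      have h3 : rep cs h w⁻¹ x ∈ D := ⟨hx.1.act _, by rw [rep_apply_inv]; exact hx.2⟩
      have h4 : rep cs h w⁻¹ x ∈ Fut cs h (1 : W) := by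
        rw [fut_one]; exact ⟨hx.1.act _, h0 x hx.1 hx.2⟩
      refine le_trans ?_ (le_FS (G := cut D X) h4)
      rw [cut_pos h3]
    exact mem_cj.1 h2
  have h2 : k⁻¹ * u * k = 1 := by
    refine cent_futG R (E := {t | k * t * k⁻¹ ∈ E}) (1 : W) (hFC.restr hDc) (fun x _ => cut_le D X x) ?_ ?_ hu' ?_
    · intro x hx t ht
      have htT : t ∈ T := by
        have := cj_T_of_rp R hk (hE ht)
        have h3 : k⁻¹ * (k * t * k⁻¹) * k = t := by group
        rwa [h3] at this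
      by_cases hxD : x ∈ D
      · rw [cut_pos hxD]; exact R.tor x hx.1 t htT
      · rw [cut_neg hxD]; exact Subgroup.map_bot _
    · intro x hx v hv hcv
      by_cases hxD : x ∈ D
      · rw [cut_pos hxD] at hv
        have h3 : k * v * k⁻¹ = 1 := by
          refine hc (rep cs h w x) (hx.1.act w) hxD.2 _ (R.conj_mem hk hx.1 hv) ?_
          intro t ht
          have h4 := hcv (k⁻¹ * t * k) (by
            show k * (k⁻¹ * t * k) * k⁻¹ ∈ E
            have : k * (k⁻¹ * t * k) * k⁻¹ = t := by group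
            rwa [this])
          calc t * (k * v * k⁻¹) = k * ((k⁻¹ * t * k) * v) * k⁻¹ := by group
            _ = _ := by rw [h4]; group
        have h4 : v = k⁻¹ * (k * v * k⁻¹) * k := by group
        rw [h4, h3]; group
      · rw [cut_neg hxD, Subgroup.mem_bot] at hv
        exact hv
    · intro t ht
      have h3 := hcu _ ht
      calc t * (k⁻¹ * u * k) = k⁻¹ * ((k * t * k⁻¹) * u) * k := by group
        _ = _ := by rw [h3]; group
  have h3 : u = k * (k⁻¹ * u * k) * k⁻¹ := by group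
  rw [h3, h2]; group

/-- **A parabolic subgroup containing `T` is standard.** -/
theorem std_of_T_le [Finite W] {z : I → Y} (D : TD cs h T X z) {f : (I → ℤ) →+ ℤ} (hf : ∀ i, 0 ≤ f (sr i)) {g : Y}
    (hg : g ∈ GG cs h T X) (hT : ∀ t ∈ T, g⁻¹ * t * g ∈ PS T X (Half cs h f)) :
    ∃ w k, Rp cs R.nsys w k ∧ k⁻¹ * g ∈ PS T X (Half cs h f) := by
  obtain ⟨w, b₁, hb₁, k, hk, b₂, hb₂, e⟩ := (mem_GG R).1 hg
  set P := PS T X (Half cs h f) with hP
  have hBP : RGD.B cs h T X ≤ P :=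
    PS_mono (T := T) (X := X) (Ω := RGD.Pos cs h) (fun x hx => ⟨hx.1, dom_nonneg hf hx.2⟩)
  obtain ⟨t1, ht1, u, hu, e1⟩ := R.mem_B.1 hb₁
  have hb₂P := hBP hb₂
  -- split `u`
  have hS : Nodes.Slope.Closed cs h (RGD.Pos cs h) := ⟨fun x hx => hx.1, closed_pos⟩
  obtain ⟨a, ha, c, hc, e2⟩ := Nodes.Slope.split R hS Nodes.Slope.htHom (-(pull cs h f w⁻¹))
    (fun x hx => RGD.ht_pos hx.1 hx.2) hu
  have hcP : k⁻¹ * c * k ∈ P := by
    have h1 : c ∈ cj k P := by
      refine (RGD.Sup_le ?_ : RGD.Sup X {x | x ∈ RGD.Pos cs h ∧ (-(pull cs h f w⁻¹)) x ≤ 0} ≤ _) hc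
      intro x hx
      have h1 : X x = cj k (X (rep cs h w⁻¹ x)) := by rw [R.conj_rp hk (hx.1.1.act _), rep_apply_inv]
      rw [h1]
      refine cj_mono k (X_le_PS ⟨hx.1.1.act _, ?_⟩)
      have h2 := hx.2
      rw [AddMonoidHom.neg_apply, pull_apply] at h2
      linarith
    exact mem_cj.1 h1
  have hak : ∀ s ∈ T, (a * k)⁻¹ * s * (a * k) ∈ P := by
    intro s hs
    have h1 := hT (t1 * s * t1⁻¹) (mul_mem (mul_mem ht1 hs) (inv_mem ht1))
    have h2 : (a * k)⁻¹ * s * (a * k) = (k⁻¹ * c * k) * b₂ * (g⁻¹ * (t1 * s * t1⁻¹) * g) *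
        ((k⁻¹ * c * k) * b₂)⁻¹ := by
      rw [e, e1, e2]; group
    rw [h2]
    exact mul_mem (mul_mem (mul_mem hcP hb₂P) h1) (inv_mem (mul_mem hcP hb₂P))
  have hneg : ∀ v ∈ RGD.Sup X {x | x ∈ RGD.Pos cs h ∧ 0 < (-(pull cs h f w⁻¹)) x},
      k⁻¹ * v * k ∈ RGD.Sup X {x | IsRoot cs h x ∧ f x < 0} := by
    intro v hv
    have h1 : v ∈ cj k (RGD.Sup X {x | IsRoot cs h x ∧ f x < 0}) := by
      refine (RGD.Sup_le ?_ : RGD.Sup X {x | x ∈ RGD.Pos cs h ∧ 0 < (-(pull cs h f w⁻¹)) x} ≤ _) hv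
      intro x hx
      have h1 : X x = cj k (X (rep cs h w⁻¹ x)) := by rw [R.conj_rp hk (hx.1.1.act _), rep_apply_inv]
      rw [h1]
      refine cj_mono k (RGD.le_Sup (S := {x | IsRoot cs h x ∧ f x < 0}) ⟨hx.1.1.act _, ?_⟩)
      have h2 := hx.2
      rw [AddMonoidHom.neg_apply, pull_apply] at h2
      linarith
    exact mem_cj.1 h1
  have hcomm : ∀ s ∈ T, s * a = a * s := by
    intro s hs
    have h1 : s * a * s⁻¹ ∈ RGD.Sup X {x | x ∈ RGD.Pos cs h ∧ 0 < (-(pull cs h f w⁻¹)) x} :=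
      FS_T_inv (S := {x | x ∈ RGD.Pos cs h ∧ 0 < (-(pull cs h f w⁻¹)) x})
        (fun x hx => R.tor x hx.1.1 s hs) (conj_mem_cj.2 ha)
    have h2 := hneg _ (mul_mem (inv_mem ha) h1)
    have h3 : k⁻¹ * (a⁻¹ * (s * a * s⁻¹)) * k ∈ P := by
      have h4 : k⁻¹ * (a⁻¹ * (s * a * s⁻¹)) * k = ((a * k)⁻¹ * s * (a * k)) * (k⁻¹ * s * k)⁻¹ := by group
      rw [h4]
      exact mul_mem (hak s hs) (inv_mem (T_le_PS (cj_T_of_rp R hk hs)))
    have h4 := key R f (rp_one (cs := cs) (hN := R.nsys)) h2 (by rw [mul_one]; exact h3)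
    have h5 : a⁻¹ * (s * a * s⁻¹) = 1 := by
      have : a⁻¹ * (s * a * s⁻¹) = k * (k⁻¹ * (a⁻¹ * (s * a * s⁻¹)) * k) * k⁻¹ := by group
      rw [this, h4]; group
    have h6 : a = s * a * s⁻¹ := inv_mul_eq_one.1 h5
    exact (mul_inv_eq_iff_eq_mul.1 h6.symm)
  have ha1 : a = 1 := by
    refine cent_fut R (E := (T : Set Y)) (fun _ ht => ht) (1 : W) (fun x hx u hu hc => D.fpf R hx.1 hu hc) ?_ hcomm
    rw [fut_one]
    exact RGD.Sup_mono (S := {x | x ∈ RGD.Pos cs h ∧ 0 < (-(pull cs h f w⁻¹)) x}) (S' := RGD.Pos cs h)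
      (fun x hx => hx.1) ha
  refine ⟨w, k, hk, ?_⟩
  have h1 : k⁻¹ * g = (k⁻¹ * t1 * k) * (k⁻¹ * c * k) * b₂ := by
    rw [e, e1, e2, ha1]; group
  rw [h1]
  exact mul_mem (mul_mem (T_le_PS (cj_T_of_rp R hk ht1)) hcP) hb₂P

/-- **The Levi decomposition of an overgroup of `T` in a parabolic subgroup.** -/
theorem levi_dec [Finite W] [Finite Y] [hp : Fact p.Prime] {z : I → Y} (D : TD cs h T X z) (f : (I → ℤ) →+ ℤ)
    {F : Subgroup Y} (hTF : T ≤ F) (hF : F ≤ PS T X (Half cs h f)) {Z : Subgroup Y} (hZT : Z ≤ T)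
    (h0 : ∀ x, IsRoot cs h x → f x = 0 → ∀ u ∈ X x, ∀ t ∈ Z, t * u = u * t)
    (h1 : ∀ x, IsRoot cs h x → 0 < f x → ∀ u ∈ X x, (∀ t ∈ Z, t * u = u * t) → u = 1) {y : Y} (hy : y ∈ F) :
    ∃ v ∈ F ⊓ RGD.Sup X {x | IsRoot cs h x ∧ 0 < f x}, ∃ l ∈ F ⊓ PS T X {x | IsRoot cs h x ∧ f x = 0},
      y = v * l := by
  set V := RGD.Sup X {x | IsRoot cs h x ∧ 0 < f x} with hV
  set L := PS T X {x | IsRoot cs h x ∧ f x = 0} with hL
  have hLN : L ≤ Subgroup.normalizer (V : Set Y) := by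
    refine sup_le (R.T_le_normalizer fun x hx => hx.1) (RGD.Sup_le fun x hx => ?_)
    refine R.le_normalizer (S := {x | IsRoot cs h x ∧ 0 < f x}) hx.1 fun y hy => ?_
    have hy' : IsRoot cs h y ∧ 0 < f y := hy
    refine ⟨hy'.1, Or.inr ⟨?_, fun z hz => ?_⟩⟩
    · rintro rfl
      have h2 := hx.2
      have h3 := hy'.2
      rw [map_neg] at h2
      linarith
    · show IsRoot cs h z ∧ 0 < f z
      exact ⟨hz.1, Nodes.Slope.btwn_pos' hz.symm f hy'.2 hx.2.ge⟩
  have hP : PS T X (Half cs h f) ≤ V ⊔ L := by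
    refine sup_le (le_trans T_le_PS le_sup_right) (RGD.Sup_le fun x hx => ?_)
    rcases hx.2.eq_or_lt with h2 | h2
    · exact le_trans (X_le_PS (T := T) (X := X) (Ω := {x | IsRoot cs h x ∧ f x = 0}) ⟨hx.1, h2.symm⟩) le_sup_right
    · exact le_trans (RGD.le_Sup (S := {x | IsRoot cs h x ∧ 0 < f x}) ⟨hx.1, h2⟩) le_sup_left
  have hy2 : y ∈ ((V ⊔ L : Subgroup Y) : Set Y) := hP (hF hy)
  rw [Subgroup.coe_mul_of_right_le_normalizer_left _ _ hLN, Set.mem_mul] at hy2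
  obtain ⟨v, hv, l, hl, rfl⟩ := hy2
  have hZL : ∀ t ∈ Z, ∀ l ∈ L, t * l = l * t := by
    intro t ht l hl
    have h2 : L ≤ Subgroup.centralizer {t} := by
      refine sup_le (fun s hs => ?_) (RGD.Sup_le fun x hx u hu => ?_)
      · rw [Subgroup.mem_centralizer_singleton_iff]
        exact D.ab s hs t (hZT ht)
      · rw [Subgroup.mem_centralizer_singleton_iff]
        exact (h0 x hx.1 hx.2 u hu t ht).symm
    exact ((Subgroup.mem_centralizer_singleton_iff).1 (h2 hl)).symm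
  have hVT : ∀ t ∈ T, ∀ u ∈ V, t * u * t⁻¹ ∈ V := fun t ht u hu =>
    FS_T_inv (S := {x | IsRoot cs h x ∧ 0 < f x}) (fun x hx => R.tor x hx.1 t ht) (conj_mem_cj.2 hu)
  have hpV : IsPGroup p ↥V := by
    obtain ⟨w, k, hk, -, h2⟩ := pos_le_conj R f
    have h3 : IsPGroup p ↥(cj k (RGD.Sup X (RGD.Pos cs h))) := R.isPGroup_Upos.map _
    exact h3.to_le h2
  have hcop : (Nat.card Z).Coprime (Nat.card ↥(F ⊓ V)) := by
    have h3 : IsPGroup p ↥(F ⊓ V) := hpV.to_le inf_le_right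
    obtain ⟨m, hm⟩ := IsPGroup.iff_card.1 h3
    rw [hm]
    refine Nat.Coprime.pow_right m ?_
    exact Nat.Coprime.coprime_dvd_left (Subgroup.card_dvd_of_le hZT) R.tcop
  have hsol : Group.IsSolvable Z := Group.isSolvable_of_comm fun s t => Subtype.ext
    (D.ab s (hZT s.2) t (hZT t.2))
  obtain ⟨q, hq, hqc⟩ := coset_fix (A := Z) (Q := F ⊓ V) (g := v⁻¹)
    (fun t ht q hq => Subgroup.mem_inf.2 ⟨mul_mem (mul_mem (hTF (hZT ht)) (Subgroup.mem_inf.1 hq).1)
      (inv_mem (hTF (hZT ht))), hVT t (hZT ht) q (Subgroup.mem_inf.1 hq).2⟩) hcop (Or.inl hsol) (by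
      intro t ht
      have htF : t ∈ F := hTF (hZT ht)
      have h3 : v⁻¹⁻¹ * (t * v⁻¹ * t⁻¹) = (v * l) * (t * (v * l) * t⁻¹)⁻¹ := by
        have h4 := hZL t ht l hl
        have h5 : l * t * l⁻¹ = t := by rw [← h4]; group
        calc v⁻¹⁻¹ * (t * v⁻¹ * t⁻¹) = v * t * v⁻¹ * t⁻¹ := by group
          _ = v * (l * t * l⁻¹) * v⁻¹ * t⁻¹ := by rw [h5]
          _ = (v * l) * (t * (v * l) * t⁻¹)⁻¹ := by group
      refine Subgroup.mem_inf.2 ⟨?_, ?_⟩
      · rw [h3]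
        exact mul_mem hy (inv_mem (mul_mem (mul_mem htF hy) (inv_mem htF)))
      · rw [inv_inv]
        exact mul_mem hv (hVT t (hZT ht) _ (inv_mem hv)))
  have hvq : v⁻¹ * q = 1 := cent_half R (E := (Z : Set Y)) (fun t ht => hZT ht) f h1
    (mul_mem (inv_mem hv) (Subgroup.mem_inf.1 hq).2) hqc
  have hvF : v ∈ F := by
    have : v = q := inv_mul_eq_one.1 hvq
    rw [this]
    exact (Subgroup.mem_inf.1 hq).1
  refine ⟨v, Subgroup.mem_inf.2 ⟨hvF, hv⟩, l, Subgroup.mem_inf.2 ⟨?_, hl⟩, rfl⟩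
  have : l = v⁻¹ * (v * l) := by group
  rw [this]
  exact mul_mem (inv_mem hvF) hy

end

end Cfsg.Agent.H460.OT
end
end

-- part: H460/OT/Tor
section
prune_inst 0x10105504042200000000000200002020400000900020880060000a400a40210000400100008010000000068008000020025c0040400000000a000000000400000000000000000000000000000000000000000000000000000000000000000000000000000
set_option linter.all false
open scoped Cfsg.Agent.FastGrp

-- part: H460/OT/TabZ
section
/-!
helper460 (S2539, layer 0): the multiples of the fundamental coweights in the coroot lattice.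
`exists_cow` : for every tabulated datum and `i < rank` there are `m`, `b` with
`∑ j, b j * A_{p_j, s} = m * (coefficient of s at p_i)` for all roots `s`, `0 < m`, and `|m * rt s i| ≤ 9`.
-/

set_option autoImplicit false

namespace Cfsg.Agent.H460.OT

open Cfsg.Lie Cfsg.Agent.ChevalleyStructure Cfsg.Agent.ChevalleyStructure.Elts Cfsg.Agent.ChevalleyStructure.RootVec
  Cfsg.Agent.ChevalleyStructure.RootVecTab Cfsg.Agent.Nodes.RGDChev

/-- the table -/
def cowOK (D : ChevalleyDatum) (m : ℤ) (B : List (List ℤ)) : Bool :=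
  (List.range D.rank).all fun i => (List.range D.rank).all fun k =>
    ((List.range D.rank).map fun j => (B.getD i []).getD j 0 * D.cartan j (D.simple k)).sum ==
      (if i = k then m else 0)

def bndOK (D : ChevalleyDatum) (c : ℕ) : Bool :=
  (List.range D.nroots).all fun r => (List.range D.rank).all fun i =>
    Nat.ble (8 - c) (dig (code D r) i) && Nat.ble (dig (code D r) i) (8 + c)

def BG2 : List (List ℤ) := [[2, 3], [1, 2]]
def BB2 : List (List ℤ) := [[2, 2], [1, 2]]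
def BD4 : List (List ℤ) := [[2, 2, 1, 1], [2, 4, 2, 2], [1, 2, 2, 1], [1, 2, 1, 2]]
def BF4 : List (List ℤ) := [[2, 3, 4, 2], [3, 6, 8, 4], [2, 4, 6, 3], [1, 2, 3, 2]]
def BE6 : List (List ℤ) := [[4, 3, 5, 6, 4, 2], [3, 6, 6, 9, 6, 3], [5, 6, 10, 12, 8, 4], [6, 9, 12, 18, 12, 6],
  [4, 6, 8, 12, 10, 5], [2, 3, 4, 6, 5, 4]]
def BE7 : List (List ℤ) := [[4, 4, 6, 8, 6, 4, 2], [4, 7, 8, 12, 9, 6, 3], [6, 8, 12, 16, 12, 8, 4],
  [8, 12, 16, 24, 18, 12, 6], [6, 9, 12, 18, 15, 10, 5], [4, 6, 8, 12, 10, 8, 4], [2, 3, 4, 6, 5, 4, 3]]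
def BE8 : List (List ℤ) := [[4, 5, 7, 10, 8, 6, 4, 2], [5, 8, 10, 15, 12, 9, 6, 3], [7, 10, 14, 20, 16, 12, 8, 4],
  [10, 15, 20, 30, 24, 18, 12, 6], [8, 12, 16, 24, 20, 15, 10, 5], [6, 9, 12, 18, 15, 12, 8, 4],
  [4, 6, 8, 12, 10, 8, 6, 3], [2, 3, 4, 6, 5, 4, 3, 2]]

theorem cow_of_ok {D : ChevalleyDatum} (h : Checked D) {m : ℤ} {B : List (List ℤ)} {c : ℕ} (hm : 0 < m)
    (hB : cowOK D m B = true) (hc : bndOK D c = true) (hmc : m * c ≤ 9) (hc8 : c ≤ 8) {i : ℕ} (hi : i < D.rank) :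
    ∃ (m : ℤ) (b : ℕ → ℤ), 0 < m ∧ ∀ s < D.nroots,
      ∑ j ∈ Finset.range D.rank, b j * D.cartan j s = m * rt D s i ∧ |m * rt D s i| ≤ 9 := by
  refine ⟨m, fun j => (B.getD i []).getD j 0, hm, fun s hs => ⟨?_, ?_⟩⟩
  · have h1 : ∀ k < D.rank, ∑ j ∈ Finset.range D.rank, (B.getD i []).getD j 0 * D.cartan j (D.simple k) =
        if i = k then m else 0 := by
      intro k hk
      have h2 := List.all_eq_true.mp (List.all_eq_true.mp hB i (List.mem_range.2 hi)) k (List.mem_range.2 hk)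
      have h3 := beq_iff_eq.1 h2
      rw [← h3, ← List.sum_toFinset _ List.nodup_range, List.toFinset_range]
    calc ∑ j ∈ Finset.range D.rank, (B.getD i []).getD j 0 * D.cartan j s
        = ∑ j ∈ Finset.range D.rank, (B.getD i []).getD j 0 *
            ∑ k ∈ Finset.range D.rank, rt D s k * D.cartan j (D.simple k) := by
          refine Finset.sum_congr rfl fun j hj => ?_
          rw [cartan_eq_sum h (Finset.mem_range.1 hj) hs]
      _ = ∑ k ∈ Finset.range D.rank, rt D s k *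
            ∑ j ∈ Finset.range D.rank, (B.getD i []).getD j 0 * D.cartan j (D.simple k) := by
          simp only [Finset.mul_sum]
          rw [Finset.sum_comm]
          refine Finset.sum_congr rfl fun k _ => Finset.sum_congr rfl fun j _ => by ring
      _ = ∑ k ∈ Finset.range D.rank, rt D s k * (if i = k then m else 0) :=
          Finset.sum_congr rfl fun k hk => by rw [h1 k (Finset.mem_range.1 hk)]
      _ = m * rt D s i := by
          rw [Finset.sum_eq_single i]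
          · rw [if_pos rfl, mul_comm]
          · intro k _ hk
            rw [if_neg (Ne.symm hk), mul_zero]
          · intro h2; exact absurd (Finset.mem_range.2 hi) h2
  · have h1 : |rt D s i| ≤ c := by
      rw [rt_of_lt hs hi]
      have h2 := List.all_eq_true.mp (List.all_eq_true.mp hc s (List.mem_range.2 hs)) (D.rank - 1 - i)
        (List.mem_range.2 (by omega))
      rw [Bool.and_eq_true, Nat.ble_eq, Nat.ble_eq] at h2
      rw [abs_le]
      constructor <;> omega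
    rw [abs_mul, abs_of_pos hm]
    calc m * |rt D s i| ≤ m * c := by nlinarith
      _ ≤ 9 := hmc

theorem exists_cow {D : ChevalleyDatum} (hD : InList D) {i : ℕ} (hi : i < D.rank) :
    ∃ (m : ℤ) (b : ℕ → ℤ), 0 < m ∧ ∀ s < D.nroots,
      ∑ j ∈ Finset.range D.rank, b j * D.cartan j s = m * rt D s i ∧ |m * rt D s i| ≤ 9 := by
  have h := checked_of_mem hD
  simp only [InList, List.mem_cons, List.not_mem_nil, or_false] at hD
  rcases hD with rfl | rfl | rfl | rfl | rfl | rfl | rfl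
  · exact cow_of_ok h (m := 1) (B := BG2) (c := 3) (by norm_num) (by decide +kernel) (by decide +kernel)
      (by norm_num) (by norm_num) hi
  · exact cow_of_ok h (m := 2) (B := BB2) (c := 2) (by norm_num) (by decide +kernel) (by decide +kernel)
      (by norm_num) (by norm_num) hi
  · exact cow_of_ok h (m := 2) (B := BD4) (c := 2) (by norm_num) (by decide +kernel) (by decide +kernel)
      (by norm_num) (by norm_num) hi
  · exact cow_of_ok h (m := 1) (B := BF4) (c := 4) (by norm_num) (by decide +kernel) (by decide +kernel)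
      (by norm_num) (by norm_num) hi
  · exact cow_of_ok h (m := 3) (B := BE6) (c := 3) (by norm_num) (by decide +kernel) (by decide +kernel)
      (by norm_num) (by norm_num) hi
  · exact cow_of_ok h (m := 2) (B := BE7) (c := 4) (by norm_num) (by decide +kernel) (by decide +kernel)
      (by norm_num) (by norm_num) hi
  · exact cow_of_ok h (m := 1) (B := BE8) (c := 6) (by norm_num) (by decide +kernel) (by decide +kernel)
      (by norm_num) (by norm_num) hi

end Cfsg.Agent.H460.OT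
end

-- part: H460/OT/Tor
section
/-!
helper460 (S2539, layer 0): the torus of `D.group K`, `|K| ≥ 13`, is large: `td`.
-/

set_option autoImplicit false
set_option linter.unusedSectionVars false

namespace Cfsg.Agent.H460.OT

open CoxeterSystem Cfsg.Agent.ChevalleyStructure.CoxeterGeom Cfsg.Agent.Tits.Roots Cfsg.Agent.Tits.Core
  Cfsg.Agent.Tits.RootComb Cfsg.Agent.Nodes.Comb Cfsg.Agent.Nodes.Reps Cfsg.Agent.Nodes.BNOf
open Cfsg.Lie Cfsg.Agent.ChevalleyStructure Cfsg.Agent.ChevalleyStructure.Elts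
  Cfsg.Agent.ChevalleyStructure.RootVec Cfsg.Agent.ChevalleyStructure.RootVecTab
  Cfsg.Agent.ChevalleyStructure.NPerm Cfsg.Agent.ChevalleyStructure.CoxeterGeomTypes
open Cfsg.Agent.Nodes Cfsg.Agent.Nodes.RGDChev
open scoped commutatorElement

universe u

/-- sums of two squares in finite fields -/
theorem two_sq {F : Type*} [Field F] [Finite F] (x : F) : ∃ a b : F, a ^ 2 + b ^ 2 = x := by
  classical
  have := Fintype.ofFinite F
  by_cases h2 : ringChar F = 2
  · obtain ⟨a, ha⟩ := FiniteField.isSquare_of_char_two h2 x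
    exact ⟨a, 0, by rw [ha]; ring⟩
  · have hodd : Fintype.card F % 2 = 1 := FiniteField.odd_card_of_char_ne_two h2
    obtain ⟨a, b, hab⟩ : ∃ a b, (Polynomial.X ^ 2 : Polynomial F).eval a +
        (Polynomial.X ^ 2 - Polynomial.C x : Polynomial F).eval b = 0 :=
      FiniteField.exists_root_sum_quadratic (Polynomial.degree_X_pow 2)
        (Polynomial.degree_X_pow_sub_C (by decide) _) hodd
    refine ⟨a, b, ?_⟩
    rw [← sub_eq_zero]
    simpa only [Polynomial.eval_C, Polynomial.eval_X, Polynomial.eval_pow, Polynomial.eval_sub,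
      ← add_sub_assoc] using hab

section Ab

variable {I W Y : Type*} [Fintype I] [DecidableEq I] [Group W] [Group Y] {M : CoxeterMatrix I}
  {cs : CoxeterSystem M W} {A : I → I → ℤ} {h : IsCartan M A} {p : ℕ} {T : Subgroup Y} {n : I → Y}
  {X : (I → ℤ) → Subgroup Y}

/-- irreducibility of the simple root groups is enough -/
theorem irr_of_sr (R : RGD cs h p T n X)
    (hirr : ∀ i, ∀ Q : Subgroup Y, Q ≤ X (sr i) → Q ≠ ⊥ → (∀ t ∈ T, cj t Q ≤ Q) → Q = X (sr i)) :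
    ∀ x, IsRoot cs h x → ∀ Q : Subgroup Y, Q ≤ X x → Q ≠ ⊥ → (∀ t ∈ T, cj t Q ≤ Q) → Q = X x := by
  rintro _ ⟨w, i, rfl⟩ Q hQ hne hT
  obtain ⟨k, hk⟩ := exists_rp cs R.nsys w
  have h1 : cj k⁻¹ (X (rep cs h w (sr i))) = X (sr i) := by
    rw [R.conj_rp hk.inv ⟨w, i, rfl⟩, rep_inv_apply]
  have h2 := hirr i (cj k⁻¹ Q) (by rw [← h1]; exact cj_mono _ hQ) (by
    intro h0
    apply hne
    have h3 := congrArg (cj k) h0
    rw [cj_cj_inv] at h3
    rw [h3]
    exact Subgroup.map_bot _) (by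
    intro t ht
    have h2 : k * t * k⁻¹ ∈ T := ((Subgroup.mem_normalizer_iff.1 hk.mem_normalizer) t).1 ht
    have h3 : cj t (cj k⁻¹ Q) = cj k⁻¹ (cj (k * t * k⁻¹) Q) := by
      rw [← cj_mul, ← cj_mul]; congr 1; group
    rw [h3]
    exact cj_mono _ (hT _ h2))
  have h3 := congrArg (cj k) h2
  rwa [cj_cj_inv, ← h1, cj_cj_inv] at h3

end Ab

section Conc

variable {D : ChevalleyDatum} {K : Type u} [Field K]

/-- products of the `h_p(c)` -/
theorem exists_torus_elt (hD : InList D) (b : ℕ → ℤ) {c : K} (hc : c ≠ 0) : ∀ n, n ≤ D.rank →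
    ∃ z ∈ D.diagonalSubgroup K, (z : Matrix D.Idx D.Idx K) =
      TorusConj.torus D K (fun s => ∑ j ∈ Finset.range n, b j * D.cartan j s) c := by
  intro n
  induction n with
  | zero =>
    intro _
    refine ⟨1, one_mem _, ?_⟩
    rw [TorusConj.torus_def, Units.val_one, ← Matrix.diagonal_one]
    congr 1
    funext i
    rcases i with i | i
    · rfl
    · simp
  | succ n ih =>
    intro hn
    obtain ⟨z, hz, e⟩ := ih (by omega)
    have hcb : c ^ b n ≠ 0 := zpow_ne_zero _ hc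
    refine ⟨z * hG hD (D.simple n) (c ^ b n), mul_mem hz (hG_mem_diagonal hD
      (RootVec.simple_lt (checked_of_mem hD) (by omega)) hcb), ?_⟩
    rw [Units.val_mul, e, coe_hG, Cfsg.Agent.S1033.result D hD n (by omega) _ hcb, TorusConj.torus_def,
      TorusConj.torus_def, Matrix.diagonal_mul_diagonal]
    congr 1
    funext i
    rcases i with i | i
    · simp
    · simp only [Sum.elim_inr]
      rw [Finset.sum_range_succ, zpow_add₀ hc, ← zpow_mul]

/-- the element `z_i(c)` acting on `e_s` by `c ^ (m * s_i)`, `|m s_i| ≤ 9` -/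
theorem exists_z (hD : InList D) {c : K} (hc : c ≠ 0) {i : ℕ} (hi : i < D.rank) :
    ∃ z ∈ D.diagonalSubgroup K, ∃ m : ℤ, 0 < m ∧ (∀ s < D.nroots, |m * rt D s i| ≤ 9) ∧
      ∀ s < D.nroots, ∀ t : K, z * xG hD s t = xG hD s (c ^ (m * rt D s i) * t) * z := by
  have h := checked_of_mem hD
  obtain ⟨m, b, hm, hb⟩ := exists_cow hD hi
  obtain ⟨z, hz, e⟩ := exists_torus_elt hD b hc D.rank le_rfl
  refine ⟨z, hz, m, hm, fun s hs => (hb s hs).2, fun s hs t => ?_⟩
  apply Units.ext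
  rw [Units.val_mul, Units.val_mul, coe_xG, coe_xG]
  have e' : (z : Matrix D.Idx D.Idx K) = TorusConj.torus D K (fun s => m * rt D s i) c := by
    rw [e, TorusConj.torus_def, TorusConj.torus_def]
    congr 1
    funext j
    rcases j with j | j
    · rfl
    · simp only [Sum.elim_inr]
      rw [(hb j.val j.isLt).1]
  rw [e']
  refine TorusConj.torus_mul_x h ?_ hc s t hs
  refine ⟨fun j => if j = i then m else 0, fun s _ => ?_⟩
  simp only [ite_mul, zero_mul]
  rw [Finset.sum_ite_eq' (Finset.range D.rank) i (fun j => m * rt D s j), if_pos (Finset.mem_range.2 hi)]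

theorem diag_comm (hD : InList D) {s t : GL D.Idx K} (hs : s ∈ D.diagonalSubgroup K)
    (ht : t ∈ D.diagonalSubgroup K) : s * t = t * s := by
  obtain ⟨χ, h1⟩ := HMatDiagAll.diagonalSubgroup_le_torus hD hs
  obtain ⟨ψ, h2⟩ := HMatDiagAll.diagonalSubgroup_le_torus hD ht
  apply Units.ext
  rw [Units.val_mul, Units.val_mul, h1, h2, Matrix.diagonal_mul_diagonal, Matrix.diagonal_mul_diagonal]
  congr 1
  funext i
  exact mul_comm _ _

theorem irr_simple (hD : InList D) [Finite K] {i : ℕ} (hi : i < D.rank) {Q : Subgroup (GL D.Idx K)}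
    (hQ : Q ≤ D.rootSubgroup K (D.simple i)) (hne : Q ≠ ⊥) (hT : ∀ t ∈ D.diagonalSubgroup K, cj t Q ≤ Q) :
    Q = D.rootSubgroup K (D.simple i) := by
  have h := checked_of_mem hD
  have hr := RootVec.simple_lt h hi
  refine le_antisymm hQ ?_
  obtain ⟨⟨g, hg⟩, hg1⟩ := (Subgroup.ne_bot_iff_exists_ne_one).1 hne
  obtain ⟨t0, rfl⟩ := (mem_rootSubgroup_iff hD _ g).1 (hQ hg)
  have ht0 : t0 ≠ 0 := by
    rintro rfl
    exact hg1 (Subtype.ext (xG_zero hD _))
  have hsq : ∀ c : K, xG hD (D.simple i) (c ^ 2 * t0) ∈ Q := by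
    intro c
    by_cases hc : c = 0
    · rw [hc, zero_pow (two_ne_zero), zero_mul, xG_zero]; exact one_mem _
    · have h1 := hT (hG hD (D.simple i) c) (hG_mem_diagonal hD hr hc) (conj_mem_cj.2 hg)
      have h2 : hG hD (D.simple i) c * xG hD (D.simple i) t0 =
          xG hD (D.simple i) (c ^ 2 * t0) * hG hD (D.simple i) c := by
        apply Units.ext
        rw [Units.val_mul, Units.val_mul, coe_xG, coe_xG, coe_hG,
          Cfsg.Agent.S1032.result D hD i (D.simple i) hi hr c hc t0, cartan_simple_self h hi]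
        have : c ^ (2 : ℤ) = c ^ (2 : ℕ) := zpow_natCast c 2
        rw [this]
      rw [h2] at h1
      have h3 : xG hD (D.simple i) (c ^ 2 * t0) * hG hD (D.simple i) c * (hG hD (D.simple i) c)⁻¹ =
          xG hD (D.simple i) (c ^ 2 * t0) := by group
      rwa [h3] at h1
  intro g' hg'
  obtain ⟨a, rfl⟩ := (mem_rootSubgroup_iff hD _ g').1 hg'
  obtain ⟨c, d, hcd⟩ := two_sq (a / t0)
  have h1 : a = c ^ 2 * t0 + d ^ 2 * t0 := by
    rw [← add_mul, hcd, div_mul_cancel₀ _ ht0]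
  rw [h1, ← xG_add]
  exact mul_mem (hsq c) (hsq d)

/-- **The torus of `D.group K` is large.** -/
theorem td {l : ℕ} {M : CoxeterMatrix (Fin l)} (hp : IsType D l M) {W : Type*} [Group W] (cs : CoxeterSystem M W)
    [Finite K] (p : ℕ) [Fact p.Prime] [CharP K p] (hK : 13 ≤ Nat.card K) :
    ∃ z : Fin l → GL D.Idx K, TD cs hp.isCartan (D.diagonalSubgroup K) (XV D l K) z := by
  classical
  have := Fintype.ofFinite K
  obtain ⟨c, hc⟩ := IsCyclic.exists_generator (α := Kˣ)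
  have hord : orderOf c = Nat.card K - 1 := by
    rw [orderOf_eq_card_of_forall_mem_zpowers hc, Nat.card_units]
  have hpow : ∀ e : ℤ, (c : K) ^ e = 1 → |e| ≤ 9 → e = 0 := by
    intro e he hle
    have h1 : c ^ e = 1 := Units.ext (by rw [Units.val_zpow_eq_zpow_val, he, Units.val_one])
    have h2 : (orderOf c : ℤ) ∣ e := orderOf_dvd_iff_zpow_eq_one.2 h1
    by_contra h0
    have h3 : (orderOf c : ℤ) ≤ |e| := Int.le_of_dvd (abs_pos.2 h0) ((dvd_abs _ _).2 h2)
    rw [hord] at h3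
    omega
  have h1 : ∀ i : Fin l, ∃ z ∈ D.diagonalSubgroup K, ∃ m : ℤ, 0 < m ∧ (∀ s < D.nroots, |m * rt D s i| ≤ 9) ∧
      ∀ s < D.nroots, ∀ t : K, z * xG hp.inList s t = xG hp.inList s ((c : K) ^ (m * rt D s i) * t) * z :=
    fun i => exists_z hp.inList (Units.ne_zero c) (lt_rank hp i)
  choose z hz m hm hb hzx using h1
  refine ⟨z, fun s hs t ht => diag_comm hp.inList hs ht, hz, ?_, ?_, ?_⟩
  · intro i x hx hx0 u hu
    obtain ⟨r, hr, rfl⟩ := (isRoot_iff hp cs x).1 hx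
    rw [XV_vec hp K hr, mem_rootSubgroup_iff hp.inList] at hu
    obtain ⟨t, rfl⟩ := hu
    rw [vec_apply] at hx0
    rw [hzx i r hr t, hx0, mul_zero, zpow_zero, one_mul]
  · intro i x hx hx0 u hu he
    obtain ⟨r, hr, rfl⟩ := (isRoot_iff hp cs x).1 hx
    rw [XV_vec hp K hr, mem_rootSubgroup_iff hp.inList] at hu
    obtain ⟨t, rfl⟩ := hu
    rw [vec_apply] at hx0
    rw [hzx i r hr t] at he
    have h2 := xG_injective hp.inList hr (mul_right_cancel he)
    by_contra h3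
    have ht : t ≠ 0 := by
      rintro rfl
      exact h3 (xG_zero hp.inList _)
    have h4 : (c : K) ^ (m i * rt D r i) = 1 := by
      have : (c : K) ^ (m i * rt D r i) * t = 1 * t := by rw [one_mul]; exact h2
      exact mul_right_cancel₀ ht this
    have h5 := hpow _ h4 (hb i r hr)
    rcases mul_eq_zero.1 h5 with h6 | h6
    · exact absurd h6 (hm i).ne'
    · exact hx0 h6
  · refine irr_of_sr (rgd_GL (K := K) hp cs p) ?_
    intro i Q hQ hne hT
    rw [XV_sr hp] at hQ ⊢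
    exact irr_simple hp.inList (lt_rank hp i) hQ hne hT

end Conc

end Cfsg.Agent.H460.OT
end
end

-- part: H460/OT/Abs
section
set_option linter.all false
open scoped Cfsg.Agent.FastGrp

/-!
helper460 (S2539, layer 0), abstract consequences of the Borel–Tits property `BT`:

* `bt_std` : a `T`-invariant `p`-subgroup `Q ≠ 1` lies in the unipotent radical of a standard proper parabolic subgroup
  containing the normaliser of `Q`;
* `prod_inv` : a `T`-invariant `p`-subgroup is the product of the root groups it contains;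
* `levi_split` : an overgroup `F` of `T` normalising a `p`-subgroup `Q ≠ 1` is `V L`, `Q ≤ V` normal `p`-subgroup,
  `T ≤ L`, `V ∩ L = 1`;
* `conj_root` : the normaliser of `T` permutes the root groups.
-/

set_option autoImplicit false
set_option linter.unusedSectionVars false

namespace Cfsg.Agent.H460.OT

open CoxeterSystem Cfsg.Agent.ChevalleyStructure.CoxeterGeom Cfsg.Agent.Tits.Roots Cfsg.Agent.Tits.Core
  Cfsg.Agent.Tits.RootComb Cfsg.Agent.Tits.Exchange Cfsg.Agent.Nodes.Reps Cfsg.Agent.Nodes.BNOf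
  Cfsg.Agent.Nodes.StabComb Cfsg.Agent.Nodes.Bruhat Cfsg.Agent.Nodes.OppDec Cfsg.Agent.Nodes.LeviDec
  Cfsg.Agent.KFacts.RgdPar Cfsg.Agent.KFacts.RgdBorelTits Cfsg.Agent.Nodes.Unique
open scoped commutatorElement

variable {I W Y : Type*} [Fintype I] [DecidableEq I] [Group W] [Group Y] {M : CoxeterMatrix I}
  {cs : CoxeterSystem M W} {A : I → I → ℤ} {h : IsCartan M A} {p : ℕ} {T : Subgroup Y} {n : I → Y}
  {X : (I → ℤ) → Subgroup Y}

/-- the Borel–Tits property -/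
def BT (p : ℕ) (cs : CoxeterSystem M W) (h : IsCartan M A) (T : Subgroup Y) (X : (I → ℤ) → Subgroup Y) : Prop :=
  ∀ Q : Subgroup Y, Q ≤ GG cs h T X → IsPGroup p ↥Q → Q ≠ ⊥ → ∃ g ∈ GG cs h T X, ∃ J : Set I, J ≠ Set.univ ∧
    Q ≤ cj g (VJ cs h X J) ∧ ∀ x ∈ GG cs h T X, cj x Q = Q → x ∈ cj g (PJ cs h T X J)

open Classical in
/-- the functional of `J` -/
noncomputable def fJ (J : Set I) : (I → ℤ) →+ ℤ where
  toFun x := ∑ i, if i ∈ J then 0 else x i
  map_zero' := by simp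
  map_add' x y := by
    rw [← Finset.sum_add_distrib]
    exact Finset.sum_congr rfl fun i _ => by by_cases hi : i ∈ J <;> simp [hi]

open Classical in
theorem fJ_apply (J : Set I) (x : I → ℤ) : fJ J x = ∑ i, if i ∈ J then 0 else x i := rfl

open Classical in
theorem fJ_sr (J : Set I) (i : I) : fJ J (sr i) = if i ∈ J then 0 else 1 := by
  rw [fJ_apply, Finset.sum_eq_single i]
  · rw [sr_self]
  · intro k _ hk
    rw [sr_ne hk, ite_self]
  · intro hi; exact absurd (Finset.mem_univ i) hi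

theorem fJ_sr_nonneg (J : Set I) (i : I) : 0 ≤ fJ J (sr i) := by
  classical
  rw [fJ_sr]
  split_ifs <;> omega

theorem fJ_zero_set (J : Set I) : {i | fJ J (sr i) = 0} = J := by
  classical
  ext i
  show fJ J (sr i) = 0 ↔ i ∈ J
  rw [fJ_sr]
  by_cases hi : i ∈ J
  · rw [if_pos hi]; simp [hi]
  · rw [if_neg hi]; simp [hi]

theorem PS_half_fJ (J : Set I) : PS T X (Half cs h (fJ J)) = PJ cs h T X J := by
  rw [PS_half_of_dom (fJ_sr_nonneg J), fJ_zero_set]

theorem exists_pos_of_fJ {J : Set I} {x : I → ℤ} (hx : 0 < fJ J x) : ∃ k, k ∉ J ∧ 0 < x k := by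
  classical
  by_contra hcon
  push Not at hcon
  have : fJ J x ≤ 0 := by
    rw [fJ_apply]
    refine Finset.sum_nonpos fun i _ => ?_
    by_cases hi : i ∈ J
    · rw [if_pos hi]
    · rw [if_neg hi]; exact hcon i hi
  omega

theorem half_pos_fJ (J : Set I) : {x | IsRoot cs h x ∧ 0 < fJ J x} = NotJ cs h J := by
  classical
  ext x
  constructor
  · rintro ⟨hx, h0⟩
    obtain ⟨k, hk, h1⟩ := exists_pos_of_fJ h0
    exact ⟨hx, nonneg_of_pos_apply hx h1, k, hk, h1⟩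
  · rintro ⟨hx, h0, k, hk, h1⟩
    refine ⟨hx, ?_⟩
    show 0 < fJ J x
    rw [fJ_apply]
    refine Finset.sum_pos' (fun i _ => ?_) ⟨k, Finset.mem_univ k, ?_⟩
    · by_cases hi : i ∈ J
      · rw [if_pos hi]
      · rw [if_neg hi]; exact h0 i
    · rw [if_neg hk]; exact h1

theorem half_zero_fJ (J : Set I) : {x | IsRoot cs h x ∧ fJ J x = 0} = RootsJ cs h J := by
  classical
  ext x
  constructor
  · rintro ⟨hx, h0⟩
    refine ⟨hx, fun k hk => ?_⟩
    by_contra hne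
    rcases hx.pos_or_neg with h1 | h1
    · have h2 : x ∈ {x | IsRoot cs h x ∧ 0 < fJ J x} := by
        rw [half_pos_fJ]
        exact ⟨hx, h1, k, hk, lt_of_le_of_ne (h1 k) (Ne.symm hne)⟩
      have h3 : 0 < fJ J x := h2.2
      omega
    · have h2 : -x ∈ {x | IsRoot cs h x ∧ 0 < fJ J x} := by
        rw [half_pos_fJ]
        have h4 : x k < 0 := lt_of_le_of_ne (h1 k) hne
        exact ⟨hx.neg, neg_nonneg.2 h1, k, hk, by rw [Pi.neg_apply]; omega⟩
      have h3 : 0 < fJ J (-x) := h2.2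
      rw [map_neg] at h3
      omega
  · rintro ⟨hx, h0⟩
    refine ⟨hx, ?_⟩
    show fJ J x = 0
    rw [fJ_apply]
    refine Finset.sum_eq_zero fun i _ => ?_
    by_cases hi : i ∈ J
    · rw [if_pos hi]
    · rw [if_neg hi]; exact h0 i hi

section

variable (R : RGD cs h p T n X)

include R

/-- The Levi decomposition in a standard parabolic subgroup. -/
theorem levi_J [Finite W] [Finite Y] [hp : Fact p.Prime] {z : I → Y} (D : TD cs h T X z) (J : Set I)
    {F : Subgroup Y} (hTF : T ≤ F) (hF : F ≤ PJ cs h T X J) {y : Y} (hy : y ∈ F) :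
    ∃ v ∈ F ⊓ VJ cs h X J, ∃ l ∈ F ⊓ LJ cs h T X J, y = v * l := by
  have h1 := levi_dec R D (fJ J) hTF (by rw [PS_half_fJ]; exact hF)
    (Z := T ⊓ Subgroup.centralizer (⋃ x ∈ {x | IsRoot cs h x ∧ fJ J x = 0}, (X x : Set Y))) inf_le_left
    (fun x hx h0 u hu t ht => by
      have h2 := Subgroup.mem_centralizer_iff.1 (Subgroup.mem_inf.1 ht).2 u
        (Set.mem_iUnion₂.2 ⟨x, ⟨hx, h0⟩, hu⟩)
      exact h2.symm)
    (fun x hx h0 u hu hc => by
      obtain ⟨k, hk, hk0⟩ := exists_pos_of_fJ h0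
      refine D.act k x hx hk0.ne' u hu (hc _ (Subgroup.mem_inf.2 ⟨D.mem k, ?_⟩))
      rw [Subgroup.mem_centralizer_iff]
      intro v hv
      obtain ⟨y, hy, hvy⟩ := Set.mem_iUnion₂.1 hv
      have hy' : y ∈ RootsJ cs h J := by rw [← half_zero_fJ]; exact hy
      exact (D.com k y hy.1 (hy'.2 k hk) v hvy).symm) hy
  obtain ⟨v, hv, l, hl, e⟩ := h1
  refine ⟨v, ?_, l, ?_, e⟩
  · rw [half_pos_fJ] at hv; exact hv
  · rw [half_zero_fJ] at hl; exact hl

theorem T_le_cj_inv {w : W} {k : Y} (hk : Rp cs R.nsys w k) {F : Subgroup Y} (hTF : T ≤ F) : T ≤ cj k⁻¹ F := by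
  rw [← cj_T R hk.inv]
  exact cj_mono _ hTF

/-- The Levi decomposition, conjugated by `k` in the torus normaliser. -/
theorem levi_conj [Finite W] [Finite Y] [hp : Fact p.Prime] {z : I → Y} (D : TD cs h T X z) (J : Set I)
    {w : W} {k : Y} (hk : Rp cs R.nsys w k)
    {F : Subgroup Y} (hTF : T ≤ F) (hF : F ≤ cj k (PJ cs h T X J)) {y : Y} (hy : y ∈ F) :
    ∃ v ∈ F ⊓ cj k (VJ cs h X J), ∃ l ∈ F ⊓ cj k (LJ cs h T X J), y = v * l := by
  obtain ⟨v, hv, l, hl, e⟩ := levi_J R D J (F := cj k⁻¹ F) (T_le_cj_inv R hk hTF) (cj_le_iff.1 hF)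
    (y := k⁻¹ * y * k) (by
      rw [mem_cj, inv_inv]
      have : k * (k⁻¹ * y * k) * k⁻¹ = y := by group
      rwa [this])
  have hv1 := (Subgroup.mem_inf.1 hv).1
  have hl1 := (Subgroup.mem_inf.1 hl).1
  rw [mem_cj, inv_inv] at hv1 hl1
  refine ⟨k * v * k⁻¹, Subgroup.mem_inf.2 ⟨hv1, conj_mem_cj.2 (Subgroup.mem_inf.1 hv).2⟩,
    k * l * k⁻¹, Subgroup.mem_inf.2 ⟨hl1, conj_mem_cj.2 (Subgroup.mem_inf.1 hl).2⟩, ?_⟩
  calc y = k * (k⁻¹ * y * k) * k⁻¹ := by group
    _ = _ := by rw [e]; group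

/-- **Borel–Tits in standard position.** -/
theorem bt_std [Finite W] {z : I → Y} (D : TD cs h T X z) (hBT : BT p cs h T X) {Q : Subgroup Y}
    (hQG : Q ≤ GG cs h T X) (hQp : IsPGroup p ↥Q) (hQ1 : Q ≠ ⊥) (hT : ∀ t ∈ T, cj t Q = Q) :
    ∃ w k, Rp cs R.nsys w k ∧ ∃ J : Set I, J ≠ Set.univ ∧ Q ≤ cj k (VJ cs h X J) ∧
      ∀ x ∈ GG cs h T X, cj x Q = Q → x ∈ cj k (PJ cs h T X J) := by
  obtain ⟨g, hg, J, hJ, h1, h2⟩ := hBT Q hQG hQp hQ1
  obtain ⟨w, k, hk, h3⟩ := std_of_T_le R D (fJ_sr_nonneg J) hg (fun t ht => by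
    rw [PS_half_fJ]
    exact mem_cj.1 (h2 t (T_le_GG ht) (hT t ht)))
  rw [PS_half_fJ] at h3
  refine ⟨w, k, hk, J, hJ, ?_, fun x hx hxQ => ?_⟩
  · have h4 : cj (k⁻¹ * g) (VJ cs h X J) = VJ cs h X J :=
      mem_normalizer_iff_cj.1 (PJ_le_normalizer_VJ R J h3)
    have h5 : cj g (VJ cs h X J) = cj k (VJ cs h X J) := by
      conv_rhs => rw [← h4, ← cj_mul]
      congr 1
      group
    rw [← h5]; exact h1
  · have h4 : cj (k⁻¹ * g) (PJ cs h T X J) = PJ cs h T X J := cj_eq_of_mem h3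
    have h5 : cj g (PJ cs h T X J) = cj k (PJ cs h T X J) := by
      conv_rhs => rw [← h4, ← cj_mul]
      congr 1
      group
    rw [← h5]; exact h2 x hx hxQ

/-- **`T`-invariant `p`-subgroups are products of root groups.** -/
theorem prod_inv [Finite W] [Finite Y] [hp : Fact p.Prime] {z : I → Y} (D : TD cs h T X z) (hBT : BT p cs h T X)
    {Q : Subgroup Y} (hQG : Q ≤ GG cs h T X) (hQp : IsPGroup p ↥Q) (hT : ∀ t ∈ T, cj t Q = Q) :
    Q = RGD.Sup X (RS cs h X Q) := by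
  apply le_antisymm
  · by_cases hQ1 : Q = ⊥
    · conv_lhs => rw [hQ1]
      exact bot_le
    obtain ⟨w, k, hk, J, -, h1, -⟩ := bt_std R D hBT hQG hQp hQ1 hT
    have h2 := prod_pos R D hk (Q := Q) (le_trans h1 (cj_mono k (VJ_le_U J))) (fun t ht => (hT t ht).le)
    conv_lhs => rw [h2]
    exact RGD.Sup_mono (S := {x | x ∈ RS cs h X Q ∧ 0 ≤ rep cs h w⁻¹ x}) fun x hx => hx.1
  · exact RGD.Sup_le fun x hx => hx.2

/-- **An overgroup of `T` with a normal `p`-subgroup `≠ 1` splits.** -/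
theorem levi_split [Finite W] [Finite Y] [hp : Fact p.Prime] {z : I → Y} (D : TD cs h T X z) (hBT : BT p cs h T X)
    {F Q : Subgroup Y} (hTF : T ≤ F) (hFG : F ≤ GG cs h T X) (hQF : Q ≤ F) (hQp : IsPGroup p ↥Q) (hQ1 : Q ≠ ⊥)
    (hn : ∀ x ∈ F, cj x Q = Q) :
    ∃ V L : Subgroup Y, V ≤ F ∧ L ≤ F ∧ T ≤ L ∧ IsPGroup p ↥V ∧ Q ≤ V ∧ V ⊓ L = ⊥ ∧
      (∀ x ∈ F, cj x V = V) ∧ ∀ y ∈ F, ∃ v ∈ V, ∃ l ∈ L, y = v * l := by
  obtain ⟨w, k, hk, J, hJ, h1, h2⟩ := bt_std R D hBT (le_trans hQF hFG) hQp hQ1 (fun t ht => hn t (hTF ht))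
  have hF : F ≤ cj k (PJ cs h T X J) := fun x hx => h2 x (hFG hx) (hn x hx)
  refine ⟨F ⊓ cj k (VJ cs h X J), F ⊓ cj k (LJ cs h T X J), inf_le_left, inf_le_left, ?_, ?_, ?_, ?_, ?_,
    fun y hy => levi_conj R D J hk hTF hF hy⟩
  · exact le_inf hTF (le_trans (cj_T R hk).ge (cj_mono k T_le_LJ))
  · have h3 : IsPGroup p ↥(cj k (VJ cs h X J)) := (R.isPGroup_Upos.to_le (VJ_le_U J)).map _
    exact h3.to_le inf_le_right
  · exact le_inf hQF h1
  · rw [Subgroup.eq_bot_iff_forall]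
    intro u hu
    have h3 := mem_cj.1 (Subgroup.mem_inf.1 (Subgroup.mem_inf.1 hu).1).2
    have h4 := mem_cj.1 (Subgroup.mem_inf.1 (Subgroup.mem_inf.1 hu).2).2
    have h5 := eq_one_of_mem_LJ_of_mem_VJ R h4 h3
    have : u = k * (k⁻¹ * u * k) * k⁻¹ := by group
    rw [this, h5]; group
  · intro x hx
    have h3 : cj x F = F := cj_eq_of_mem hx
    have h4 : cj x (cj k (VJ cs h X J)) = cj k (VJ cs h X J) := by
      have h5 := mem_normalizer_iff_cj.1 (PJ_le_normalizer_VJ R J (mem_cj.1 (hF hx)))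
      conv_rhs => rw [← h5, ← cj_mul]
      rw [← cj_mul]
      congr 1
      group
    apply le_antisymm
    · intro u hu
      rw [mem_cj] at hu
      refine Subgroup.mem_inf.2 ⟨?_, ?_⟩
      · rw [← h3]; exact mem_cj.2 (Subgroup.mem_inf.1 hu).1
      · rw [← h4]; exact mem_cj.2 (Subgroup.mem_inf.1 hu).2
    · intro u hu
      rw [mem_cj]
      have h6 : u ∈ cj x F := by rw [h3]; exact (Subgroup.mem_inf.1 hu).1
      have h7 : u ∈ cj x (cj k (VJ cs h X J)) := by rw [h4]; exact (Subgroup.mem_inf.1 hu).2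
      exact Subgroup.mem_inf.2 ⟨mem_cj.1 h6, mem_cj.1 h7⟩

/-- **The normaliser of `T` permutes the root groups.** -/
theorem conj_root [Finite W] [Finite Y] [hp : Fact p.Prime] {z : I → Y} (D : TD cs h T X z) (hBT : BT p cs h T X)
    (hcard : ∀ x y, IsRoot cs h x → IsRoot cs h y → Nat.card (X x) ≤ Nat.card (X y))
    {g : Y} (hg : g ∈ GG cs h T X) (hgT : cj g T = T) {x : I → ℤ} (hx : IsRoot cs h x) :
    ∃ y, IsRoot cs h y ∧ cj g (X x) = X y := by
  have hXp : ∀ x, IsRoot cs h x → IsPGroup p ↥(X x) := by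
    rintro _ ⟨w, i, rfl⟩
    obtain ⟨k, hk⟩ := exists_rp cs R.nsys w
    rw [← R.conj_rp hk (isRoot_sr cs h i)]
    exact (R.pgrp i).map _
  have hgG : cj g (GG cs h T X) = GG cs h T X := cj_eq_of_mem hg
  have h1 := prod_inv R D hBT (Q := cj g (X x)) (by rw [← hgG]; exact cj_mono g (X_le_GG hx))
    ((hXp x hx).map _) (by
      intro t ht
      have ht' : g⁻¹ * t * g ∈ T := by
        have : t ∈ cj g T := by rw [hgT]; exact ht
        exact mem_cj.1 this
      have h2 : cj t (cj g (X x)) = cj g (cj (g⁻¹ * t * g) (X x)) := by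
        rw [← cj_mul, ← cj_mul]; congr 1; group
      rw [h2, R.tor x hx _ ht'])
  have hne : cj g (X x) ≠ ⊥ := by
    intro h0
    apply X_ne_bot R hx
    have := congrArg (cj g⁻¹) h0
    rw [cj_inv_cj] at this
    rw [this]
    exact Subgroup.map_bot _
  obtain ⟨y, hy⟩ : (RS cs h X (cj g (X x))).Nonempty := by
    rw [Set.nonempty_iff_ne_empty]
    intro h0
    rw [h0, Sup_empty] at h1
    exact hne h1
  refine ⟨y, hy.1, (Subgroup.eq_of_le_of_card_ge hy.2 ?_).symm⟩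
  have h2 : Nat.card (cj g (X x)) = Nat.card (X x) :=
    (Nat.card_congr ((X x).equivMapOfInjective (MulAut.conj g).toMonoidHom (MulAut.conj g).injective).toEquiv).symm
  rw [h2]
  exact hcard x y hx hy.1

end

end Cfsg.Agent.H460.OT
end

-- part: H460/OT/Bru
section
prune_inst 0x10201100040000000018001000001c02a0000402004b800010e0070207461c002044060048000c00001088502030006813180010001800000000000040000020802252001240a104260001803803580c00000000000000000000000000041000000000000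
set_option linter.all false
open scoped Cfsg.Agent.FastGrp

/-!
helper460 (S2539, layer 0). The Bruhat decomposition of the groups `G(S) = ⟨T, X x : x ∈ S⟩`, their Sylow subgroups and
their Weyl groups.

`H` is a subgroup containing `T`, `RS H` the set of roots `x` with `X x ≤ H`, assumed closed under addition,
`G0 H = T ⊔ Sup X (RS H)`.
-/

set_option autoImplicit false
set_option linter.unusedSectionVars false

namespace Cfsg.Agent.H460.OT

open CoxeterSystem Cfsg.Agent.ChevalleyStructure.CoxeterGeom Cfsg.Agent.Tits.Roots Cfsg.Agent.Tits.Core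
  Cfsg.Agent.Tits.RootComb Cfsg.Agent.Tits.Exchange Cfsg.Agent.Nodes.Reps Cfsg.Agent.Nodes.BNOf
  Cfsg.Agent.Nodes.StabComb Cfsg.Agent.Nodes.Bruhat Cfsg.Agent.Nodes.OppDec Cfsg.Agent.Nodes.LeviDec
  Cfsg.Agent.Nodes.Coroot Cfsg.Agent.Nodes.PosPair Cfsg.Agent.KFacts.RgdSL
  Cfsg.Agent.KFacts.RgdPar Cfsg.Agent.KFacts.RgdBorelTits Cfsg.Agent.Nodes.Unique
open scoped commutatorElement

variable {I W Y : Type*} [Fintype I] [DecidableEq I] [Group W] [Group Y] {M : CoxeterMatrix I}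
  {cs : CoxeterSystem M W} {A : I → I → ℤ} {h : IsCartan M A} {p : ℕ} {T : Subgroup Y} {n : I → Y}
  {X : (I → ℤ) → Subgroup Y}

/-- `G(S)` for `S = RS H`. -/
def G0 (cs : CoxeterSystem M W) (h : IsCartan M A) (T : Subgroup Y) (X : (I → ℤ) → Subgroup Y) (H : Subgroup Y) :
    Subgroup Y := T ⊔ RGD.Sup X (RS cs h X H)

/-- the positive roots of `H` -/
def SP (cs : CoxeterSystem M W) (h : IsCartan M A) (X : (I → ℤ) → Subgroup Y) (H : Subgroup Y) : Set (I → ℤ) :=
  {x | x ∈ RS cs h X H ∧ 0 ≤ x}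

/-- the symmetric roots of `H` -/
def SS (cs : CoxeterSystem M W) (h : IsCartan M A) (X : (I → ℤ) → Subgroup Y) (H : Subgroup Y) : Set (I → ℤ) :=
  {x | x ∈ RS cs h X H ∧ -x ∈ RS cs h X H}

/-- the positive symmetric roots of `H` -/
def PP (cs : CoxeterSystem M W) (h : IsCartan M A) (X : (I → ℤ) → Subgroup Y) (H : Subgroup Y) : Set (I → ℤ) :=
  {x | x ∈ SS cs h X H ∧ 0 ≤ x}

/-- the Weyl group of `G0 H` -/
def WS (cs : CoxeterSystem M W) (h : IsCartan M A) (X : (I → ℤ) → Subgroup Y) (H : Subgroup Y) : Subgroup W :=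
  Subgroup.closure {s | ∃ a, a ∈ RS cs h X H ∧ -a ∈ RS cs h X H ∧ IsRf cs h a s}

theorem W0_le_WS {H : Subgroup Y} : W0 cs h (PP cs h X H) ≤ WS cs h X H := by
  refine Subgroup.closure_mono ?_
  rintro s ⟨a, ha, hs⟩
  exact ⟨a, ha.1.1.1, ha.1.1.2, hs⟩

theorem G0_le {H : Subgroup Y} (hTH : T ≤ H) : G0 cs h T X H ≤ H := sup_le hTH (RGD.Sup_le fun _ hx => hx.2)

theorem X_le_G0 {H : Subgroup Y} {x : I → ℤ} (hx : x ∈ RS cs h X H) : X x ≤ G0 cs h T X H :=
  le_trans (RGD.le_Sup hx) le_sup_right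

theorem T_le_G0 {H : Subgroup Y} : T ≤ G0 cs h T X H := le_sup_left

section

variable (R : RGD cs h p T n X)

include R

theorem mem_of_X_le [Finite W] {w : W} {S : Set (I → ℤ)} (hS : ∀ x ∈ S, IsRoot cs h x ∧ 0 ≤ rep cs h w x)
    (hc : Nodes.Unique.Closed cs h S) {v : I → ℤ} (hv : IsRoot cs h v) (hv0 : 0 ≤ rep cs h w v)
    (hle : X v ≤ RGD.Sup X S) : v ∈ S := by
  by_contra hvS
  obtain ⟨k, hk⟩ := exists_rp cs R.nsys w
  set S' : Set (I → ℤ) := {x | rep cs h w⁻¹ x ∈ S} with hS'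
  have h1 : cj k (RGD.Sup X S) ≤ RGD.Sup X S' := cj_Sup_le R hk (fun x hx => (hS x hx).1) (fun x hx => by
    show rep cs h w⁻¹ (rep cs h w x) ∈ S
    rw [rep_inv_apply]; exact hx)
  have h2 : X (rep cs h w v) ≤ RGD.Sup X S' := by
    rw [← R.conj_rp hk hv]; exact le_trans (cj_mono k hle) h1
  have hr : IsRoot cs h (rep cs h w v) := hv.act w
  have h3 := inf_eq R (S := {rep cs h w v}) (S' := S') (by
      rintro x rfl; exact ⟨hr, hv0⟩) (by
      intro x hx
      have h4 := hS _ hx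
      refine ⟨?_, ?_⟩
      · have := h4.1.act w; rwa [rep_apply_inv] at this
      · have := h4.2; rwa [rep_apply_inv] at this) (by
      intro x hx y hy z hz
      rw [Set.mem_singleton_iff] at hx hy ⊢
      subst hx; subst hy
      exact btwn_self hr hz) (by
      intro x hx y hy z hz
      exact hc _ hx _ hy _ (hz.act w⁻¹))
  have h4 : X (rep cs h w v) ≤ RGD.Sup X ({rep cs h w v} ∩ S') := by
    rw [← h3]
    exact le_inf (RGD.le_Sup (Set.mem_singleton _)) h2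
  have h5 : ({rep cs h w v} ∩ S' : Set (I → ℤ)) = ∅ := by
    ext x
    simp only [Set.mem_inter_iff, Set.mem_singleton_iff, Set.mem_empty_iff_false, iff_false, not_and]
    rintro rfl h6
    apply hvS
    have h7 : rep cs h w⁻¹ (rep cs h w v) ∈ S := h6
    rwa [rep_inv_apply] at h7
  rw [h5] at h4
  exact X_ne_bot R hr (le_bot_iff.1 (le_trans h4 (RGD.Sup_le fun z hz => absurd hz (Set.notMem_empty z))))

omit R in
theorem closed_btwn (x y : I → ℤ) : Nodes.Unique.Closed cs h {v | Btwn cs h x y v} := by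
  rintro v ⟨hv, m1, a1, b1, hm1, ha1, hb1, e1⟩ v' ⟨hv', m2, a2, b2, hm2, ha2, hb2, e2⟩ z ⟨hz, m, a, b, hm, ha, hb, e⟩
  refine ⟨hz, m * m1 * m2, a * m2 * a1 + b * m1 * a2, a * m2 * b1 + b * m1 * b2, by positivity, by positivity,
    by positivity, ?_⟩
  calc (m * m1 * m2) • z = (m1 * m2) • (m • z) := by module
    _ = (a * m2) • (m1 • v) + (b * m1) • (m2 • v') := by rw [e]; module
    _ = _ := by rw [e1, e2]; module

/-- refined commutator relations -/
theorem comm_RS [Finite W] [Finite Y] [hp : Fact p.Prime] {z : I → Y} (D : TD cs h T X z) {H : Subgroup Y}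
    (hTH : T ≤ H) {x y : I → ℤ} (hx : x ∈ RS cs h X H) (hy : y ∈ RS cs h X H) (hxy : x ≠ y) (hxy' : x ≠ -y)
    {a b : Y} (ha : a ∈ X x) (hb : b ∈ X y) : ⁅a, b⁆ ∈ RGD.Sup X {v | v ∈ RS cs h X H ∧ Btwn cs h x y v} := by
  obtain ⟨w, hwx, hwy⟩ := exists_pos_pair cs h hx.1 hy.1 hxy'
  obtain ⟨k, hk⟩ := exists_rp cs R.nsys w⁻¹
  set Q := H ⊓ RGD.Sup X {v | Btwn cs h x y v} with hQ
  have hQU : Q ≤ cj k (RGD.Sup X (RGD.Pos cs h)) := by
    refine le_trans inf_le_right (RGD.Sup_le fun v hv => ?_)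
    have hv' : Btwn cs h x y v := hv
    have h1 : X v = cj k (X (rep cs h w v)) := by rw [R.conj_rp hk (hv'.1.act _), rep_inv_apply]
    rw [h1]
    exact cj_mono k (RGD.le_Sup (S := RGD.Pos cs h) ⟨hv'.1.act _, RGD.nonneg_of_btwn hwx hwy (hv'.act w)⟩)
  have hQT : ∀ t ∈ T, cj t Q ≤ Q := by
    intro t ht u hu
    rw [mem_cj] at hu
    obtain ⟨h1, h2⟩ := Subgroup.mem_inf.1 hu
    refine Subgroup.mem_inf.2 ⟨?_, FS_T_inv (S := {v | Btwn cs h x y v}) (fun v hv => R.tor v hv.1 t ht)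
      (mem_cj.2 h2)⟩
    have : u = t * (t⁻¹ * u * t) * t⁻¹ := by group
    rw [this]
    exact mul_mem (mul_mem (hTH ht) h1) (inv_mem (hTH ht))
  have h3 : ⁅a, b⁆ ∈ Q := by
    refine Subgroup.mem_inf.2 ⟨?_, R.comm x y hx.1 hy.1 hxy hxy' a ha b hb⟩
    rw [commutatorElement_def]
    exact mul_mem (mul_mem (mul_mem (hx.2 ha) (hy.2 hb)) (inv_mem (hx.2 ha))) (inv_mem (hy.2 hb))
  rw [prod_pos R D hk hQU hQT] at h3
  refine RGD.Sup_mono (S := {x | x ∈ RS cs h X Q ∧ 0 ≤ rep cs h w⁻¹⁻¹ x}) ?_ h3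
  rintro v ⟨⟨hv, hvQ⟩, hv0⟩
  rw [inv_inv] at hv0
  refine ⟨⟨hv, le_trans hvQ inf_le_left⟩, ?_⟩
  exact mem_of_X_le R (w := w) (S := {v | Btwn cs h x y v})
    (fun v hv => ⟨hv.1, RGD.nonneg_of_btwn hwx hwy (hv.act w)⟩) (closed_btwn x y) hv hv0
    (le_trans hvQ inf_le_right)

theorem RS_act {H : Subgroup Y} {w : W} {m : Y} (hm : Rp cs R.nsys w m) (hmH : m ∈ H) {x : I → ℤ}
    (hx : x ∈ RS cs h X H) : rep cs h w x ∈ RS cs h X H := by
  refine ⟨hx.1.act w, ?_⟩
  rw [← R.conj_rp hm hx.1]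
  intro u hu
  rw [mem_cj] at hu
  have : u = m * (m⁻¹ * u * m) * m⁻¹ := by group
  rw [this]
  exact mul_mem (mul_mem hmH (hx.2 hu)) (inv_mem hmH)

theorem exists_mu' [Finite W] {x : I → ℤ} (hx : IsRoot cs h x) {s : W} (hs : IsRf cs h x s) {y : Y}
    (hy : y ∈ X (-x)) (hy1 : y ≠ 1) :
    ∃ a ∈ X x, ∃ b ∈ X x, ∃ m ∈ X x ⊔ X (-x), Rp cs R.nsys s m ∧ y = a * m * b := by
  obtain ⟨s', hs', a, ha, b, hb, m, hm, e⟩ := exists_mu R hx.neg hy hy1
  rw [neg_neg] at ha hb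
  have h1 : IsRf cs h x s' := by
    have := IsRf.neg (cs := cs) (h := h) hx.neg (s := s') hs'
    rwa [neg_neg] at this
  rw [h1.unique hs] at hm
  refine ⟨a⁻¹, inv_mem ha, b⁻¹, inv_mem hb, m, ?_, hm, by rw [e]; group⟩
  rw [e]
  exact mul_mem (mul_mem (le_sup_left (a := X x) ha) (le_sup_right (a := X x) hy)) (le_sup_left (a := X x) hb)

theorem exists_m [Finite W] {H : Subgroup Y} {x : I → ℤ} (hx : x ∈ SS cs h X H) {s : W} (hs : IsRf cs h x s) :
    ∃ m ∈ G0 cs h T X H, Rp cs R.nsys s m := by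
  obtain ⟨y, hy, hy1⟩ : ∃ y ∈ X (-x), y ≠ 1 := by
    by_contra hcon
    push Not at hcon
    exact X_ne_bot R hx.1.1.neg ((Subgroup.eq_bot_iff_forall _).2 hcon)
  obtain ⟨a, ha, b, hb, m, hm, hm', -⟩ := exists_mu' R hx.1.1 hs hy hy1
  exact ⟨m, sup_le (X_le_G0 hx.1) (X_le_G0 hx.2) hm, hm'⟩

theorem RS_refl [Finite W] {H : Subgroup Y} (hTH : T ≤ H) {a : I → ℤ} (ha : a ∈ RS cs h X H)
    (ha' : -a ∈ RS cs h X H) {x : I → ℤ} (hx : x ∈ RS cs h X H) : x - cpr cs h x a • a ∈ RS cs h X H := by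
  obtain ⟨s, hs⟩ := exists_rf ha.1
  obtain ⟨m, hm, hm'⟩ := exists_m R (H := H) ⟨ha, ha'⟩ hs
  rw [← hs]
  exact RS_act R hm' (G0_le hTH hm) hx

theorem SS_refl [Finite W] {H : Subgroup Y} (hTH : T ≤ H) {a : I → ℤ} (ha : a ∈ SS cs h X H)
    {x : I → ℤ} (hx : x ∈ SS cs h X H) : x - cpr cs h x a • a ∈ SS cs h X H := by
  refine ⟨RS_refl R hTH ha.1 ha.2 hx.1, ?_⟩
  have h1 := RS_refl R hTH ha.1 ha.2 hx.2
  rw [cpr_neg cs h _ ha.1.1, neg_smul, sub_neg_eq_add] at h1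
  have h2 : -(x - cpr cs h x a • a) = -x + cpr cs h x a • a := by abel
  rwa [h2]

/-! ### positive case -/

variable [Finite W] [Finite Y] [hp : Fact p.Prime] {z : I → Y} (D : TD cs h T X z) {H : Subgroup Y} (hTH : T ≤ H)

include D hTH in
/-- `X a` normalises `Sup (SP \ {a})`. -/
theorem norm_X {a : I → ℤ} (ha : a ∈ SP cs h X H) :
    X a ≤ Subgroup.normalizer (RGD.Sup X (SP cs h X H \ {a}) : Set Y) := by
  have key : ∀ u ∈ X a, cj u (RGD.Sup X (SP cs h X H \ {a})) ≤ RGD.Sup X (SP cs h X H \ {a}) := by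
    intro u hu
    rw [RGD.cj_Sup]
    refine iSup_le ?_
    rintro ⟨y, hy, hya⟩
    have hya' : y ≠ a := hya
    intro b hb
    rw [mem_cj] at hb
    have h1 := comm_RS R D hTH ha.1 hy.1 hya'.symm (by
      rintro h0
      have h2 : y ≤ 0 := by
        have := ha.2
        rw [h0] at this
        exact neg_nonneg.1 this
      exact hy.1.1.not_pos_neg hy.2 h2) hu hb
    have h2 : b = ⁅u, u⁻¹ * b * u⁆ * (u⁻¹ * b * u) := by
      rw [commutatorElement_def]; group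
    rw [h2]
    refine mul_mem (RGD.Sup_mono (S := {v | v ∈ RS cs h X H ∧ Btwn cs h a y v}) ?_ h1)
      (RGD.le_Sup (S := SP cs h X H \ {a}) ⟨hy, hya⟩ hb)
    rintro v ⟨hv, hvb⟩
    exact ⟨⟨hv, RGD.nonneg_of_btwn ha.2 hy.2 hvb⟩, btwn_ne_left ha.1.1 hy.1.1 ha.2 hy.2 hya'.symm hvb⟩
  intro u hu
  rw [mem_normalizer_iff_cj]
  apply le_antisymm (key u hu)
  have h1 := key u⁻¹ (inv_mem hu)
  have h2 := cj_mono u h1
  rwa [cj_cj_inv] at h2

include D hTH in
theorem exists_mul' {a : I → ℤ} (ha : a ∈ SP cs h X H) {u : Y} (hu : u ∈ RGD.Sup X (SP cs h X H)) :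
    ∃ r ∈ RGD.Sup X (SP cs h X H \ {a}), ∃ x ∈ X a, u = r * x := by
  have hn := norm_X R D hTH ha
  have h1 : u ∈ ((RGD.Sup X (SP cs h X H \ {a}) ⊔ X a : Subgroup Y) : Set Y) := by
    refine (?_ : RGD.Sup X (SP cs h X H) ≤ _) hu
    refine RGD.Sup_le fun z hz => ?_
    by_cases hz0 : z = a
    · subst hz0; exact le_sup_right
    · exact le_trans (RGD.le_Sup (S := SP cs h X H \ {a}) ⟨hz, hz0⟩) le_sup_left
  rw [Subgroup.coe_mul_of_right_le_normalizer_left _ _ hn, Set.mem_mul] at h1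
  obtain ⟨r, hr, x, hx, e⟩ := h1
  exact ⟨r, hr, x, hx, e.symm⟩

omit [Finite W] [Finite Y] hp in
/-- `g ∈ U_S k U_S` -/
def Gam (R : RGD cs h p T n X) (H : Subgroup Y) (g : Y) : Prop :=
  ∃ u ∈ RGD.Sup X (SP cs h X H), ∃ w ∈ W0 cs h (PP cs h X H), ∃ k ∈ G0 cs h T X H, Rp cs R.nsys w k ∧
    ∃ v ∈ RGD.Sup X (SP cs h X H), g = u * k * v

omit [Finite W] [Finite Y] hp in
theorem gam_one : Gam R H 1 := ⟨1, one_mem _, 1, one_mem _, 1, one_mem _, rp_one, 1, one_mem _, by group⟩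

omit [Finite W] [Finite Y] hp in
theorem gam_U {u g : Y} (hu : u ∈ RGD.Sup X (SP cs h X H)) (hg : Gam R H g) : Gam R H (u * g) := by
  obtain ⟨u', hu', w, hw, k, hk, hkw, v, hv, rfl⟩ := hg
  exact ⟨u * u', mul_mem hu hu', w, hw, k, hk, hkw, v, hv, by group⟩

omit [Finite W] [Finite Y] hp in
theorem T_SP {t u : Y} (ht : t ∈ T) (hu : u ∈ RGD.Sup X (SP cs h X H)) :
    t * u * t⁻¹ ∈ RGD.Sup X (SP cs h X H) :=
  FS_T_inv (S := SP cs h X H) (fun v hv => R.tor v hv.1.1 t ht) (conj_mem_cj.2 hu)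

omit [Finite W] [Finite Y] hp in
theorem gam_T {t g : Y} (ht : t ∈ T) (hg : Gam R H g) : Gam R H (t * g) := by
  obtain ⟨u, hu, w, hw, k, hk, hkw, v, hv, rfl⟩ := hg
  refine ⟨t * u * t⁻¹, T_SP R ht hu, w, hw, t * k, mul_mem (T_le_G0 ht) hk, ?_, v, hv, by group⟩
  have := (rp_of_mem (cs := cs) (hN := R.nsys) ht).mul hkw
  rwa [one_mul] at this

include D hTH in
theorem gam_m (hpos : ∀ a ∈ RS cs h X H, -a ∉ RS cs h X H → 0 ≤ a) {a : I → ℤ} (ha : Smp cs h (PP cs h X H) a)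
    {s : W} (hs : IsRf cs h a s) {m : Y} (hm : m ∈ G0 cs h T X H) (hms : Rp cs R.nsys s m) {g : Y}
    (hg : Gam R H g) : Gam R H (m * g) := by
  obtain ⟨u, hu, w, hw, k, hk, hkw, v, hv, rfl⟩ := hg
  have har : IsRoot cs h a := ha.1.1.1.1
  have haSP : a ∈ SP cs h X H := ⟨ha.1.1.1, ha.1.2⟩
  have hsW : s ∈ W0 cs h (PP cs h X H) := Subgroup.subset_closure ⟨a, ha, hs⟩
  obtain ⟨r, hr, x, hx, rfl⟩ := exists_mul' R D hTH haSP hu
  -- `m r m⁻¹`
  have h1 : m * r * m⁻¹ ∈ RGD.Sup X (SP cs h X H) := by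
    refine conj_mem_Sup R hms (S := SP cs h X H \ {a}) (fun y hy => hy.1.1.1) ?_ hr
    rintro y ⟨hy, hya⟩
    have hya' : y ≠ a := hya
    refine ⟨RS_act R hms (G0_le hTH hm) hy.1, ?_⟩
    by_cases hy' : -y ∈ RS cs h X H
    · rw [hs]
      exact (ha.2 y ⟨⟨hy.1, hy'⟩, hy.2⟩ hya').2
    · refine hpos _ (RS_act R hms (G0_le hTH hm) hy.1) fun h2 => hy' ?_
      have h3 := RS_act R hms (G0_le hTH hm) h2
      rwa [map_neg, ← rep_mul_apply, hs.mul_self har, map_one, Module.End.one_apply] at h3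
  have hmk : Rp cs R.nsys (s * w) (m * k) := hms.mul hkw
  rcases (har.act w⁻¹).pos_or_neg with h0 | h0
  · have h2 : k⁻¹ * x * k ∈ RGD.Sup X (SP cs h X H) := by
      refine RGD.le_Sup (S := SP cs h X H) ⟨?_, h0⟩ (R.conj_mem' hkw har hx)
      exact RS_act R hkw.inv (inv_mem (G0_le hTH hk)) ha.1.1.1
    exact ⟨m * r * m⁻¹, h1, s * w, mul_mem hsW hw, m * k, mul_mem hm hk, hmk, (k⁻¹ * x * k) * v,
      mul_mem h2 hv, by group⟩
  · have h2 : rep cs h (s * w)⁻¹ a = -rep cs h w⁻¹ a := by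
      rw [mul_inv_rev, rep_mul_apply, hs.inv_eq har, hs.self har, map_neg]
    have h3 : m * x * m⁻¹ ∈ X (-a) := by
      have := R.conj_mem hms har hx
      rwa [hs.self har] at this
    by_cases hx1 : x = 1
    · subst hx1
      exact ⟨m * r * m⁻¹, h1, s * w, mul_mem hsW hw, m * k, mul_mem hm hk, hmk, v, hv, by group⟩
    · obtain ⟨a', ha', b', hb', m', hm', hms', e⟩ := exists_mu' R har hs h3 (by
        intro h4
        apply hx1
        have : x = m⁻¹ * (m * x * m⁻¹) * m := by group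
        rw [this, h4]; group)
      have hm'G : m' ∈ G0 cs h T X H := sup_le (X_le_G0 ha.1.1.1) (X_le_G0 ha.1.1.2) hm'
      have h4 : (m * k)⁻¹ * b' * (m * k) ∈ RGD.Sup X (SP cs h X H) := by
        have h5 := R.conj_mem' hmk har hb'
        rw [h2] at h5
        refine RGD.le_Sup (S := SP cs h X H) ⟨?_, neg_nonneg.2 h0⟩ h5
        have h6 := RS_act R hkw.inv (inv_mem (G0_le hTH hk)) ha.1.1.2
        rwa [map_neg] at h6
      have h5 : Rp cs R.nsys w (m' * (m * k)) := by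
        have := hms'.mul hmk
        rwa [← mul_assoc s s w, hs.mul_self har, one_mul] at this
      refine ⟨m * r * m⁻¹ * a', mul_mem h1 (RGD.le_Sup haSP ha'), w, hw, m' * (m * k),
        mul_mem hm'G (mul_mem hm hk), h5, ((m * k)⁻¹ * b' * (m * k)) * v, mul_mem h4 hv, ?_⟩
      calc m * (r * x * k * v) = (m * r * m⁻¹) * (m * x * m⁻¹) * (m * k) * v := by group
        _ = _ := by rw [e]; group

include D hTH in
/-- **Bruhat decomposition**, positive case. -/
theorem gam_of_mem (hpos : ∀ a ∈ RS cs h X H, -a ∉ RS cs h X H → 0 ≤ a) {g : Y} (hg : g ∈ G0 cs h T X H) :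
    Gam R H g := by
  let L : Subgroup Y :=
    { carrier := {g | (∀ γ, Gam R H γ → Gam R H (g * γ)) ∧ ∀ γ, Gam R H γ → Gam R H (g⁻¹ * γ)}
      one_mem' := ⟨fun γ hγ => by rwa [one_mul], fun γ hγ => by rwa [inv_one, one_mul]⟩
      mul_mem' := by
        rintro a b ⟨ha, ha'⟩ ⟨hb, hb'⟩
        refine ⟨fun γ hγ => ?_, fun γ hγ => ?_⟩
        · rw [mul_assoc]; exact ha _ (hb _ hγ)
        · rw [mul_inv_rev, mul_assoc]; exact hb' _ (ha' _ hγ)
      inv_mem' := by
        rintro a ⟨ha, ha'⟩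
        exact ⟨ha', fun γ hγ => by rw [inv_inv]; exact ha γ hγ⟩ }
  have hT : T ≤ L := fun t ht => ⟨fun γ hγ => gam_T R ht hγ, fun γ hγ => gam_T R (inv_mem ht) hγ⟩
  have hU : RGD.Sup X (SP cs h X H) ≤ L := fun u hu =>
    ⟨fun γ hγ => gam_U R hu hγ, fun γ hγ => gam_U R (inv_mem hu) hγ⟩
  have hM : ∀ a, Smp cs h (PP cs h X H) a → ∀ s, IsRf cs h a s → ∀ m ∈ G0 cs h T X H, Rp cs R.nsys s m → m ∈ L := by
    intro a ha s hs m hm hms
    refine ⟨fun γ hγ => gam_m R D hTH hpos ha hs hm hms hγ,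
      fun γ hγ => gam_m R D hTH hpos ha hs (inv_mem hm) ?_ hγ⟩
    have := hms.inv
    rwa [hs.inv_eq ha.1.1.1.1] at this
  have hW : ∀ v ∈ W0 cs h (PP cs h X H), ∃ k ∈ L, Rp cs R.nsys v k := by
    intro v hv
    induction hv using Subgroup.closure_induction with
    | mem s hs =>
      obtain ⟨a, ha, hs⟩ := hs
      obtain ⟨m, hm, hms⟩ := exists_m R ha.1.1 hs
      exact ⟨m, hM a ha s hs m hm hms, hms⟩
    | one => exact ⟨1, one_mem _, rp_one⟩
    | mul v v' _ _ ih ih' =>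
      obtain ⟨k, hk, hk'⟩ := ih
      obtain ⟨l, hl, hl'⟩ := ih'
      exact ⟨k * l, mul_mem hk hl, hk'.mul hl'⟩
    | inv v _ ih =>
      obtain ⟨k, hk, hk'⟩ := ih
      exact ⟨k⁻¹, inv_mem hk, hk'.inv⟩
  have hcj : ∀ k ∈ L, ∀ A : Subgroup Y, A ≤ L → cj k A ≤ L := by
    intro k hk A hA u hu
    rw [mem_cj] at hu
    have : u = k * (k⁻¹ * u * k) * k⁻¹ := by group
    rw [this]
    exact mul_mem (mul_mem hk (hA hu)) (inv_mem hk)
  have hneg : ∀ x ∈ PP cs h X H, X (-x) ≤ L := by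
    intro x hx
    obtain ⟨v, hv, a, ha, hva⟩ := exists_conj_simple (cs := cs) (h := h) (Sg := SS cs h X H)
      (fun x hx => hx.1.1) (fun x hx => ⟨hx.2, by rw [neg_neg]; exact hx.1⟩)
      (fun a ha x hx => SS_refl R hTH ha hx) hx.1 hx.2
    obtain ⟨k, hk, hk'⟩ := hW v hv
    have ha' : Smp cs h (PP cs h X H) a := ha
    obtain ⟨s, hs⟩ := exists_rf ha'.1.1.1.1
    obtain ⟨m, hm, hms⟩ := exists_m R ha'.1.1 hs
    have h1 : X (-a) ≤ L := by
      have h2 : X (-a) = cj m (X a) := by rw [R.conj_rp hms ha'.1.1.1.1, hs.self ha'.1.1.1.1]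
      rw [h2]
      exact hcj m (hM a ha' s hs m hm hms) _ (le_trans (RGD.le_Sup (S := SP cs h X H) ⟨ha'.1.1.1, ha'.1.2⟩) hU)
    have h2 : X (-x) = cj k (X (-a)) := by rw [R.conj_rp hk' ha'.1.1.1.1.neg, map_neg, hva]
    rw [h2]
    exact hcj k hk _ h1
  have hL : G0 cs h T X H ≤ L := by
    refine sup_le hT (RGD.Sup_le fun y hy => ?_)
    rcases hy.1.pos_or_neg with h0 | h0
    · exact le_trans (RGD.le_Sup (S := SP cs h X H) ⟨hy, h0⟩) hU
    · have h1 : -y ∈ RS cs h X H := by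
        by_contra hcon
        exact hy.1.not_pos_neg (hpos y hy hcon) h0
      have h2 := hneg (-y) ⟨⟨h1, by rw [neg_neg]; exact hy⟩, neg_nonneg.2 h0⟩
      rwa [neg_neg] at h2
  have h1 := (hL hg).1 1 (gam_one R)
  rwa [mul_one] at h1

include D hTH in
theorem mem_W0_of_rp (hpos : ∀ a ∈ RS cs h X H, -a ∉ RS cs h X H → 0 ≤ a) {g : Y} (hg : g ∈ G0 cs h T X H)
    {w : W} (hw : Rp cs R.nsys w g) : w ∈ W0 cs h (PP cs h X H) := by
  obtain ⟨u, hu, w', hw', k, hk, hkw, v, hv, e⟩ := gam_of_mem R D hTH hpos hg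
  have hSB : RGD.Sup X (SP cs h X H) ≤ RGD.B cs h T X :=
    le_trans (RGD.Sup_mono (S := SP cs h X H) (S' := RGD.Pos cs h) fun x hx => ⟨hx.1.1, hx.2⟩) RGD.U_le_B
  have h1 : Cell R.nsys cs h X w' g := ⟨u, hSB hu, k, hkw, v, hSB hv, e⟩
  rw [Cell.unique R (cell_of_rp hw) h1]
  exact hw'

include D hTH in
/-- `H ∩ U` -/
theorem inf_U : H ⊓ RGD.Sup X (RGD.Pos cs h) = RGD.Sup X (SP cs h X H) := by
  apply le_antisymm
  · have h1 := prod_pos R D (rp_one (cs := cs) (hN := R.nsys)) (Q := H ⊓ RGD.Sup X (RGD.Pos cs h))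
      (by rw [cj_one]; exact inf_le_right) (by
        intro t ht u hu
        rw [mem_cj] at hu
        obtain ⟨h1, h2⟩ := Subgroup.mem_inf.1 hu
        refine Subgroup.mem_inf.2 ⟨?_, FS_T_inv (S := RGD.Pos cs h) (fun v hv => R.tor v hv.1 t ht)
          (mem_cj.2 h2)⟩
        have : u = t * (t⁻¹ * u * t) * t⁻¹ := by group
        rw [this]
        exact mul_mem (mul_mem (hTH ht) h1) (inv_mem (hTH ht)))
    rw [h1]
    refine RGD.Sup_mono fun x hx => ?_
    obtain ⟨hx1, hx2⟩ := hx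
    rw [inv_one, map_one, Module.End.one_apply] at hx2
    exact ⟨⟨hx1.1, le_trans hx1.2 inf_le_left⟩, hx2⟩
  · exact RGD.Sup_le fun x hx => le_inf hx.1.2 (RGD.le_Sup (S := RGD.Pos cs h) ⟨hx.1.1, hx.2⟩)

include D hTH in
/-- **Sylow subgroups**, positive case. -/
theorem sylow_pos (hpos : ∀ a ∈ RS cs h X H, -a ∉ RS cs h X H → 0 ≤ a) {P : Subgroup Y} (hP : IsPGroup p P)
    (hU : RGD.Sup X (SP cs h X H) ≤ P) (hPH : P ≤ G0 cs h T X H) : P = RGD.Sup X (SP cs h X H) := by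
  by_contra hne
  have hlt : RGD.Sup X (SP cs h X H) < P := lt_of_le_of_ne hU (Ne.symm hne)
  have hnil : Group.IsNilpotent P := hP.isNilpotent
  have h1 : (RGD.Sup X (SP cs h X H)).subgroupOf P < ⊤ := by
    rw [lt_top_iff_ne_top]
    intro h2
    rw [Subgroup.subgroupOf_eq_top] at h2
    exact absurd (lt_of_lt_of_le hlt h2) (lt_irrefl _)
  have h2 := (Group.normalizerCondition_of_isNilpotent (h := hnil)) _ h1
  obtain ⟨y, hy, hyU⟩ := SetLike.exists_of_lt h2
  have hyn : cj (y : Y) (RGD.Sup X (SP cs h X H)) = RGD.Sup X (SP cs h X H) := by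
    rw [← mem_normalizer_iff_cj, Subgroup.mem_normalizer_iff]
    intro x
    have h4 := Subgroup.mem_normalizer_iff.1 hy
    constructor
    · intro hx
      have := (h4 ⟨x, hU hx⟩).1 (Subgroup.mem_subgroupOf.2 hx)
      exact Subgroup.mem_subgroupOf.1 this
    · intro hx
      have hxP : x ∈ P := by
        have h5 : (y : Y)⁻¹ * ((y : Y) * x * (y : Y)⁻¹) * (y : Y) ∈ P :=
          mul_mem (mul_mem (inv_mem y.2) (hU hx)) y.2
        have e : (y : Y)⁻¹ * ((y : Y) * x * (y : Y)⁻¹) * (y : Y) = x := by group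
        rwa [e] at h5
      have := (h4 ⟨x, hxP⟩).2 (Subgroup.mem_subgroupOf.2 hx)
      exact Subgroup.mem_subgroupOf.1 this
  obtain ⟨u, hu, w, hw, k, hk, hkw, v, hv, e⟩ := gam_of_mem R D hTH hpos (hPH y.2)
  have hkn : cj k (RGD.Sup X (SP cs h X H)) = RGD.Sup X (SP cs h X H) := by
    have h3 : k = u⁻¹ * (y : Y) * v⁻¹ := by rw [e]; group
    rw [h3, cj_mul, cj_mul, cj_eq_of_mem (inv_mem hv), hyn, cj_eq_of_mem (inv_mem hu)]
  have hw1 : w = 1 := by
    refine eq_one_of_stab (cs := cs) (h := h) (P := PP cs h X H) (fun x hx => hx.1.1.1) (fun x hx hx' =>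
      hx.1.1.1.not_pos_neg hx.2 (neg_nonneg.1 hx'.2)) hw fun x hx => ?_
    have hx1 := RS_act R hkw (G0_le hTH hk) hx.1.1
    have hx2 := RS_act R hkw (G0_le hTH hk) hx.1.2
    refine ⟨⟨hx1, by rw [← map_neg]; exact hx2⟩, ?_⟩
    by_contra h0
    have h3 : X (rep cs h w x) ≤ RGD.Sup X (RGD.Pos cs h) := by
      rw [← R.conj_rp hkw hx.1.1.1]
      refine le_trans (cj_mono k (RGD.le_Sup (S := SP cs h X H) ⟨hx.1.1, hx.2⟩)) ?_
      rw [hkn]
      exact RGD.Sup_mono (S := SP cs h X H) (S' := RGD.Pos cs h) fun x hx => ⟨hx.1.1, hx.2⟩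
    have h4 : X (rep cs h w x) ≤ UN cs h X :=
      RGD.le_Sup (S := {x | IsRoot cs h x ∧ x ≤ 0}) ⟨hx1.1, (hx1.1.not_nonneg_iff).1 h0⟩
    exact X_ne_bot R hx1.1 (le_bot_iff.1 (U_inf_UN R ▸ le_inf h3 h4))
  subst hw1
  have hkT : k ∈ T := hkw.mem_of_one
  have hyB : (y : Y) ∈ RGD.B cs h T X := by
    have hSB : RGD.Sup X (SP cs h X H) ≤ RGD.B cs h T X :=
      le_trans (RGD.Sup_mono (S := SP cs h X H) (S' := RGD.Pos cs h) fun x hx => ⟨hx.1.1, hx.2⟩) RGD.U_le_B
    rw [e]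
    exact mul_mem (mul_mem (hSB hu) (RGD.T_le_B hkT)) (hSB hv)
  obtain ⟨j, hj⟩ := hP y
  have h5 := R.mem_U_of_mem_B hyB (k := j) (by
    have := congrArg Subtype.val hj
    rwa [SubgroupClass.coe_pow] at this)
  have h6 : (y : Y) ∈ RGD.Sup X (SP cs h X H) := by
    rw [← inf_U R D hTH]
    exact Subgroup.mem_inf.2 ⟨G0_le hTH (hPH y.2), h5⟩
  exact hyU (Subgroup.mem_subgroupOf.2 h6)

end

end Cfsg.Agent.H460.OT
end

-- part: H460/OT/Conc
section
set_option linter.all false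
open scoped Cfsg.Agent.FastGrp

/-!
helper460 (S2539, layer 0), concrete form in `GL D.Idx K`, `|K| ≥ 13`, `D` one of the seven tabulated data.

* `inv_pgroup` : a `p`-subgroup of `D.group K` normalised by `T = D.diagonalSubgroup K` is generated by the root
  subgroups it contains;
* `overgroup_split` : `T ≤ F ≤ D.group K`, `Q ≠ 1` a normal `p`-subgroup of `F`: `F = V L`, `Q ≤ V ⊴ F` a `p`-group,
  `T ≤ L`, `V ∩ L = 1`;
* `conj_rootSubgroup` : the normaliser of `T` in `D.group K` permutes the root subgroups.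
-/

set_option autoImplicit false
set_option linter.unusedSectionVars false

namespace Cfsg.Agent.H460.OT

open CoxeterSystem Cfsg.Agent.ChevalleyStructure.CoxeterGeom Cfsg.Agent.Tits.Roots Cfsg.Agent.Tits.Core
  Cfsg.Agent.Tits.RootComb Cfsg.Agent.Tits.Exchange Cfsg.Agent.Nodes.Reps Cfsg.Agent.Nodes.BNOf
  Cfsg.Agent.Nodes.StabComb Cfsg.Agent.Nodes.Bruhat Cfsg.Agent.Nodes.OppDec Cfsg.Agent.Nodes.LeviDec
  Cfsg.Agent.KFacts.RgdPar Cfsg.Agent.KFacts.RgdBorelTits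
open Cfsg.Lie Cfsg.Agent.ChevalleyStructure Cfsg.Agent.ChevalleyStructure.Elts
  Cfsg.Agent.ChevalleyStructure.RootVec Cfsg.Agent.ChevalleyStructure.RootVecTab
  Cfsg.Agent.ChevalleyStructure.NPerm Cfsg.Agent.ChevalleyStructure.CoxeterGeomTypes
open Cfsg.Agent.Nodes Cfsg.Agent.Nodes.RGDChev

universe u

section Abs

variable {I W Y : Type*} [Fintype I] [DecidableEq I] [Group W] [Group Y] {M : CoxeterMatrix I}
  {cs : CoxeterSystem M W} {A : I → I → ℤ} {h : IsCartan M A} {T : Subgroup Y}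
  {X : (I → ℤ) → Subgroup Y}

theorem map_Sup_le (G : Subgroup Y) (S : Set (I → ℤ)) :
    (RGD.Sup (fun x => (X x).subgroupOf G) S).map G.subtype ≤ RGD.Sup X S := by
  rw [Subgroup.map_le_iff_le_comap]
  refine RGD.Sup_le fun x hx => ?_
  intro g hg
  exact RGD.le_Sup hx (Subgroup.mem_subgroupOf.1 hg)

theorem map_PJ_le (G : Subgroup Y) (J : Set I) :
    (PJ cs h (T.subgroupOf G) (fun x => (X x).subgroupOf G) J).map G.subtype ≤ PJ cs h T X J := by
  unfold PJ LJ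
  rw [Subgroup.map_sup, Subgroup.map_sup]
  refine sup_le_sup (sup_le_sup ?_ (map_Sup_le G _)) (map_Sup_le G _)
  rw [Subgroup.map_le_iff_le_comap]
  intro g hg
  exact Subgroup.mem_subgroupOf.1 hg

end Abs

section GLs

variable {D : ChevalleyDatum} {l : ℕ} {M : CoxeterMatrix (Fin l)} (hp : IsType D l M) {K : Type u} [Field K]
  {W : Type*} [Group W] (cs : CoxeterSystem M W)

include hp in
theorem GG_GL : GG cs hp.isCartan (D.diagonalSubgroup K) (XV D l K) = D.group K := by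
  apply le_antisymm
  · exact sup_le (diagonal_le_group hp.inList K) (RGD.Sup_le fun x _ => XV_le_group hp x)
  · rw [group_le_iff hp.inList]
    intro r hr t
    refine X_le_GG (isRoot_vec hp cs hr) ?_
    rw [XV_vec hp K hr]
    exact xG_mem_rootSubgroup hp.inList r t

/-- the Borel–Tits property of `D.group K` -/
theorem bt_GL [Finite K] (p : ℕ) [Fact p.Prime] [CharP K p] :
    BT p cs hp.isCartan (D.diagonalSubgroup K) (XV D l K) := by
  intro U hUG hU hne
  rw [GG_GL hp cs] at hUG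
  have : Finite (GL D.Idx K) := inferInstance
  have : Finite ↥(D.group K) := inferInstance
  have : Finite W := finite_W hp cs
  have hK : IsPGroup p ↥(U.subgroupOf (D.group K)) :=
    hU.comap_of_injective (D.group K).subtype Subtype.val_injective
  have hK1 : U.subgroupOf (D.group K) ≠ ⊥ := by
    rw [Ne, Subgroup.subgroupOf_eq_bot]
    intro h
    apply hne
    rw [eq_bot_iff]
    intro u hu
    exact (Subgroup.disjoint_def.1 h hu (hUG hu)) ▸ Subgroup.one_mem _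
  obtain ⟨g, J, hJ, h1, h2⟩ := borel_tits (KFacts.RgdFiltChev.filt (K := K) hp cs p)
    (KFacts.RgdFilt.GG_eq_top (G1_eq_top hp cs)) hK hK1
  refine ⟨g, ?_, J, hJ, ?_, ?_⟩
  · rw [GG_GL hp cs]; exact g.2
  · intro x hx
    have hx' : (⟨x, hUG hx⟩ : ↥(D.group K)) ∈ U.subgroupOf (D.group K) := hx
    have h3 := mem_cj.1 (h1 hx')
    rw [mem_cj]
    exact map_Sup_le (X := XV D l K) (D.group K) _ ⟨_, h3, rfl⟩
  · intro x hxG hx
    rw [GG_GL hp cs] at hxG
    have hx' : (⟨x, hxG⟩ : ↥(D.group K)) ∈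
        Subgroup.normalizer ((U.subgroupOf (D.group K) : Subgroup ↥(D.group K)) : Set ↥(D.group K)) := by
      rw [Subgroup.mem_normalizer_iff]
      intro y
      rw [Subgroup.mem_subgroupOf, Subgroup.mem_subgroupOf]
      exact (Subgroup.mem_normalizer_iff.1 (mem_normalizer_iff_cj.2 hx)) (y : GL D.Idx K)
    have h3 := mem_cj.1 (h2 hx')
    rw [mem_cj]
    exact map_PJ_le (D.group K) J ⟨_, h3, rfl⟩

end GLs

/-- the types of the data -/
theorem exists_type {D : ChevalleyDatum}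
    (hD : D ∈ [chevG2, chevB2, chevD4, chevF4, chevE6, chevE7, chevE8]) :
    ∃ (l : ℕ) (M : CoxeterMatrix (Fin l)), IsType D l M := by
  simp only [List.mem_cons, List.not_mem_nil, or_false] at hD
  rcases hD with rfl | rfl | rfl | rfl | rfl | rfl | rfl
  · exact ⟨2, CoxeterMatrix.G₂, by simp [IsType, typeList]⟩
  · exact ⟨2, CoxeterMatrix.B 2, by simp [IsType, typeList]⟩
  · exact ⟨4, coxeterD4, by simp [IsType, typeList]⟩
  · exact ⟨4, CoxeterMatrix.F₄, by simp [IsType, typeList]⟩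
  · exact ⟨6, CoxeterMatrix.E₆, by simp [IsType, typeList]⟩
  · exact ⟨7, CoxeterMatrix.E₇, by simp [IsType, typeList]⟩
  · exact ⟨8, CoxeterMatrix.E₈, by simp [IsType, typeList]⟩

section Final

variable {D : ChevalleyDatum} {K : Type u} [Field K] [Finite K] {p : ℕ} [Fact p.Prime] [CharP K p]

theorem Sup_RS {l : ℕ} {M : CoxeterMatrix (Fin l)} (hp : IsType D l M) {W : Type*} [Group W]
    (cs : CoxeterSystem M W) (Q : Subgroup (GL D.Idx K)) :
    RGD.Sup (XV D l K) (RS cs hp.isCartan (XV D l K) Q) =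
      ⨆ r ∈ {r : ℕ | r < D.nroots ∧ D.rootSubgroup K r ≤ Q}, D.rootSubgroup K r := by
  apply le_antisymm
  · refine RGD.Sup_le fun x hx => ?_
    obtain ⟨r, hr, rfl⟩ := (isRoot_iff hp cs x).1 hx.1
    have h1 := hx.2
    rw [XV_vec hp K hr] at h1 ⊢
    exact le_iSup₂ (f := fun r (_ : r ∈ {r : ℕ | r < D.nroots ∧ D.rootSubgroup K r ≤ Q}) => D.rootSubgroup K r)
      r ⟨hr, h1⟩
  · refine iSup₂_le fun r hr => ?_
    rw [← XV_vec hp K hr.1]
    exact RGD.le_Sup (S := RS cs hp.isCartan (XV D l K) Q) ⟨isRoot_vec hp cs hr.1, by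
      rw [XV_vec hp K hr.1]; exact hr.2⟩

/-- **(C1)** A `p`-subgroup of `D.group K` normalised by `T` is generated by its root subgroups. -/
theorem inv_pgroup (hD : D ∈ [chevG2, chevB2, chevD4, chevF4, chevE6, chevE7, chevE8]) (hK : 13 ≤ Nat.card K)
    {Q : Subgroup (GL D.Idx K)} (hQG : Q ≤ D.group K) (hQp : IsPGroup p ↥Q)
    (hT : D.diagonalSubgroup K ≤ Subgroup.normalizer (Q : Set (GL D.Idx K))) :
    Q = ⨆ r ∈ {r : ℕ | r < D.nroots ∧ D.rootSubgroup K r ≤ Q}, D.rootSubgroup K r := by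
  obtain ⟨l, M, hp⟩ := exists_type hD
  have : Finite (GL D.Idx K) := inferInstance
  have : Finite M.Group := finite_W hp M.toCoxeterSystem
  obtain ⟨z, hz⟩ := td hp M.toCoxeterSystem p hK
  have h1 := prod_inv (rgd_GL (K := K) hp M.toCoxeterSystem p) hz (bt_GL hp M.toCoxeterSystem p)
    (Q := Q) (by rw [GG_GL hp]; exact hQG) hQp (fun t ht => mem_normalizer_iff_cj.1 (hT ht))
  rw [Sup_RS hp] at h1
  exact h1

/-- **(C3)** An overgroup of `T` with a normal `p`-subgroup `≠ 1` splits. -/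
theorem overgroup_split (hD : D ∈ [chevG2, chevB2, chevD4, chevF4, chevE6, chevE7, chevE8]) (hK : 13 ≤ Nat.card K)
    {F Q : Subgroup (GL D.Idx K)} (hTF : D.diagonalSubgroup K ≤ F) (hFG : F ≤ D.group K) (hQF : Q ≤ F)
    (hQp : IsPGroup p ↥Q) (hQ1 : Q ≠ ⊥) (hn : F ≤ Subgroup.normalizer (Q : Set (GL D.Idx K))) :
    ∃ V L : Subgroup (GL D.Idx K), V ≤ F ∧ L ≤ F ∧ D.diagonalSubgroup K ≤ L ∧ IsPGroup p ↥V ∧ Q ≤ V ∧
      V ⊓ L = ⊥ ∧ F ≤ Subgroup.normalizer (V : Set (GL D.Idx K)) ∧ ∀ y ∈ F, ∃ v ∈ V, ∃ l ∈ L, y = v * l := by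
  obtain ⟨l, M, hp⟩ := exists_type hD
  have : Finite (GL D.Idx K) := inferInstance
  have : Finite M.Group := finite_W hp M.toCoxeterSystem
  obtain ⟨z, hz⟩ := td hp M.toCoxeterSystem p hK
  obtain ⟨V, L, h1, h2, h3, h4, h5, h6, h7, h8⟩ :=
    levi_split (rgd_GL (K := K) hp M.toCoxeterSystem p) hz (bt_GL hp M.toCoxeterSystem p)
    (Q := Q) hTF (by rw [GG_GL hp]; exact hFG) hQF hQp hQ1 (fun t ht => mem_normalizer_iff_cj.1 (hn ht))
  exact ⟨V, L, h1, h2, h3, h4, h5, h6, fun x hx => mem_normalizer_iff_cj.2 (h7 x hx), h8⟩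

theorem card_rootSubgroup (hD : InList D) {r : ℕ} (hr : r < D.nroots) :
    Nat.card (D.rootSubgroup K r) = Nat.card K := by
  refine Nat.card_congr (Equiv.ofBijective
    (fun g : D.rootSubgroup K r => Classical.choose ((mem_rootSubgroup_iff hD r g.1).1 g.2)) ⟨?_, ?_⟩)
  · intro a b hab
    have h1 := Classical.choose_spec ((mem_rootSubgroup_iff hD r a.1).1 a.2)
    have h2 := Classical.choose_spec ((mem_rootSubgroup_iff hD r b.1).1 b.2)
    apply Subtype.ext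
    rw [h1, h2]
    exact congrArg (xG hD r) hab
  · intro t
    refine ⟨⟨xG hD r t, xG_mem_rootSubgroup hD r t⟩, ?_⟩
    have h1 := Classical.choose_spec ((mem_rootSubgroup_iff hD r (xG hD r t)).1 (xG_mem_rootSubgroup hD r t))
    exact (xG_injective hD hr h1).symm

/-- **(C2)** The normaliser of `T` permutes the root subgroups. -/
theorem conj_rootSubgroup (hD : D ∈ [chevG2, chevB2, chevD4, chevF4, chevE6, chevE7, chevE8])
    (hK : 13 ≤ Nat.card K) {g : GL D.Idx K} (hg : g ∈ D.group K)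
    (hgT : g ∈ Subgroup.normalizer (D.diagonalSubgroup K : Set (GL D.Idx K))) {r : ℕ} (hr : r < D.nroots) :
    ∃ s < D.nroots, (D.rootSubgroup K r).map (MulAut.conj g).toMonoidHom = D.rootSubgroup K s := by
  obtain ⟨l, M, hp⟩ := exists_type hD
  obtain ⟨p, hpc⟩ := CharP.exists K
  have hpp : Fact p.Prime := ⟨CharP.char_is_prime K p⟩
  have : Finite (GL D.Idx K) := inferInstance
  have : Finite M.Group := finite_W hp M.toCoxeterSystem
  obtain ⟨z, hz⟩ := td hp M.toCoxeterSystem p hK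
  obtain ⟨y, hy, e⟩ := conj_root (rgd_GL (K := K) hp M.toCoxeterSystem p) hz (bt_GL hp M.toCoxeterSystem p)
    (fun x y hx hy => by
      obtain ⟨r, hr, rfl⟩ := (isRoot_iff hp _ x).1 hx
      obtain ⟨s, hs, rfl⟩ := (isRoot_iff hp _ y).1 hy
      rw [XV_vec hp K hr, XV_vec hp K hs, card_rootSubgroup hp.inList hr, card_rootSubgroup hp.inList hs])
    (by rw [GG_GL hp]; exact hg) (mem_normalizer_iff_cj.1 hgT) (isRoot_vec hp M.toCoxeterSystem hr)
  obtain ⟨s, hs, rfl⟩ := (isRoot_iff hp _ y).1 hy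
  rw [XV_vec hp K hr, XV_vec hp K hs] at e
  exact ⟨s, hs, e⟩

end Final

end Cfsg.Agent.H460.OT
end

-- part: H460/OT/BruConc
section
prune_inst 0x10300100042200000018001000000002a00004020040000030e0010200861c000040000040000800000080400030006813000010000000000000000000000020802252001240a104260001803002400000000000000000000000000000041000000000000
set_option linter.all false
open scoped Cfsg.Agent.FastGrp

-- part: H460/OT/BruGen
section
/-!
helper460 (S2539, layer 0). The Bruhat decomposition of `G(S)`, general case (`S` closed under addition).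
-/

set_option autoImplicit false
set_option linter.unusedSectionVars false

namespace Cfsg.Agent.H460.OT

open CoxeterSystem Cfsg.Agent.ChevalleyStructure.CoxeterGeom Cfsg.Agent.Tits.Roots Cfsg.Agent.Tits.Core
  Cfsg.Agent.Tits.RootComb Cfsg.Agent.Tits.Exchange Cfsg.Agent.Nodes.Reps Cfsg.Agent.Nodes.BNOf
  Cfsg.Agent.Nodes.StabComb Cfsg.Agent.Nodes.Bruhat Cfsg.Agent.Nodes.OppDec Cfsg.Agent.Nodes.LeviDec
  Cfsg.Agent.Nodes.Coroot Cfsg.Agent.Nodes.PosPair Cfsg.Agent.KFacts.RgdSL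
  Cfsg.Agent.KFacts.RgdPar Cfsg.Agent.KFacts.RgdBorelTits Cfsg.Agent.Nodes.Unique
open scoped commutatorElement

variable {I W Y : Type*} [Fintype I] [DecidableEq I] [Group W] [Group Y] {M : CoxeterMatrix I}
  {cs : CoxeterSystem M W} {A : I → I → ℤ} {h : IsCartan M A} {p : ℕ} {T : Subgroup Y} {n : I → Y}
  {X : (I → ℤ) → Subgroup Y}

section

variable (R : RGD cs h p T n X)

include R

theorem RS_cj {H : Subgroup Y} {w : W} {k : Y} (hk : Rp cs R.nsys w k) {x : I → ℤ} :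
    x ∈ RS cs h X (cj k⁻¹ H) ↔ rep cs h w x ∈ RS cs h X H := by
  constructor
  · rintro ⟨hx, h1⟩
    refine ⟨hx.act w, ?_⟩
    rw [← R.conj_rp hk hx]
    have h2 := cj_mono k h1
    rwa [cj_cj_inv] at h2
  · rintro ⟨hx, h1⟩
    have hx' : IsRoot cs h x := by
      have := hx.act w⁻¹
      rwa [rep_inv_apply] at this
    refine ⟨hx', ?_⟩
    rw [← R.conj_rp hk hx'] at h1
    have h2 := cj_mono k⁻¹ h1
    rwa [cj_inv_cj] at h2

theorem cj_T' {w : W} {k : Y} (hk : Rp cs R.nsys w k) : cj k T = T := mem_normalizer_iff_cj.1 hk.mem_normalizer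

theorem G0_cj {H : Subgroup Y} {w : W} {k : Y} (hk : Rp cs R.nsys w k) :
    G0 cs h T X (cj k⁻¹ H) = cj k⁻¹ (G0 cs h T X H) := by
  unfold G0
  rw [cj_sup, cj_T' R hk.inv]
  congr 1
  rw [RGD.cj_Sup]
  apply le_antisymm
  · refine RGD.Sup_le fun x hx => ?_
    have h1 := (RS_cj R hk).1 hx
    have h2 : X x = cj k⁻¹ (X (rep cs h w x)) := by rw [← R.conj_rp hk hx.1, cj_inv_cj]
    rw [h2]
    exact le_iSup (fun z : RS cs h X H => cj k⁻¹ (X z.1)) ⟨_, h1⟩
  · refine iSup_le ?_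
    rintro ⟨x, hx⟩
    have h1 : x = rep cs h w (rep cs h w⁻¹ x) := (rep_apply_inv cs h w x).symm
    have h2 : rep cs h w⁻¹ x ∈ RS cs h X (cj k⁻¹ H) := (RS_cj R hk).2 (by rw [← h1]; exact hx)
    have h3 : cj k⁻¹ (X x) = X (rep cs h w⁻¹ x) := R.conj_rp hk.inv hx.1
    show cj k⁻¹ (X x) ≤ _
    rw [h3]
    exact RGD.le_Sup h2

theorem WS_cj [Finite W] {H : Subgroup Y} {w : W} {k : Y} (hk : Rp cs R.nsys w k) {v : W}
    (hv : v ∈ WS cs h X (cj k⁻¹ H)) : w * v * w⁻¹ ∈ WS cs h X H := by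
  induction hv using Subgroup.closure_induction with
  | mem s hs =>
    obtain ⟨a, ha, ha', hs⟩ := hs
    refine Subgroup.subset_closure ⟨rep cs h w a, (RS_cj R hk).1 ha, ?_, hs.conj ha.1 w⟩
    rw [← map_neg]
    exact (RS_cj R hk).1 ha'
  | one => rw [mul_one, mul_inv_cancel]; exact one_mem _
  | mul x y _ _ ih ih' =>
    have : w * (x * y) * w⁻¹ = (w * x * w⁻¹) * (w * y * w⁻¹) := by group
    rw [this]
    exact mul_mem ih ih'
  | inv x _ ih =>
    have : w * x⁻¹ * w⁻¹ = (w * x * w⁻¹)⁻¹ := by group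
    rw [this]
    exact inv_mem ih

variable [Finite W] [Finite Y] [hp : Fact p.Prime] {z : I → Y} (D : TD cs h T X z) {H : Subgroup Y} (hTH : T ≤ H)

omit [Finite Y] hp in
include hTH in
/-- There is a positive system containing the non-symmetric roots of `H`. -/
theorem exists_pos_conj (hadd : ∀ x ∈ RS cs h X H, ∀ y ∈ RS cs h X H, IsRoot cs h (x + y) → x + y ∈ RS cs h X H) :
    ∃ w k, Rp cs R.nsys w k ∧ (∀ x ∈ RS cs h X H, -x ∉ RS cs h X H → 0 ≤ rep cs h w⁻¹ x) := by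
  obtain ⟨w, hw⟩ := exists_pos_system (cs := cs) (h := h) (S := RS cs h X H) (fun x hx => hx.1)
    (fun a ha ha' x hx => RS_refl R hTH ha ha' hx) hadd
  obtain ⟨k, hk⟩ := exists_rp cs R.nsys w
  refine ⟨w, k, hk, fun x hx hx' => ?_⟩
  by_contra h0
  apply hx'
  refine hw (-x) hx.1.neg ?_ (by rw [neg_neg]; exact hx)
  rw [map_neg]
  exact neg_nonneg.2 (((hx.1.act w⁻¹).not_nonneg_iff).1 h0)

include D hTH in
/-- **The structure of `G(S)`.** -/
theorem struct_gen (hadd : ∀ x ∈ RS cs h X H, ∀ y ∈ RS cs h X H, IsRoot cs h (x + y) → x + y ∈ RS cs h X H) :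
    ∃ w k, Rp cs R.nsys w k ∧ (∀ x ∈ RS cs h X H, -x ∉ RS cs h X H → 0 ≤ rep cs h w⁻¹ x) ∧
      H ⊓ cj k (RGD.Sup X (RGD.Pos cs h)) = RGD.Sup X {x | x ∈ RS cs h X H ∧ 0 ≤ rep cs h w⁻¹ x} ∧
      (∀ g ∈ G0 cs h T X H, ∃ u ∈ H ⊓ cj k (RGD.Sup X (RGD.Pos cs h)), ∃ v ∈ WS cs h X H, ∃ m ∈ G0 cs h T X H,
        Rp cs R.nsys v m ∧ ∃ u' ∈ H ⊓ cj k (RGD.Sup X (RGD.Pos cs h)), g = u * m * u') ∧
      (∀ P : Subgroup Y, IsPGroup p P → H ⊓ cj k (RGD.Sup X (RGD.Pos cs h)) ≤ P → P ≤ G0 cs h T X H →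
        P = H ⊓ cj k (RGD.Sup X (RGD.Pos cs h))) := by
  obtain ⟨w, k, hk, hpos⟩ := exists_pos_conj R hTH hadd
  have hTH' : T ≤ cj k⁻¹ H := by
    rw [← cj_T' R hk.inv]; exact cj_mono _ hTH
  have hpos' : ∀ a ∈ RS cs h X (cj k⁻¹ H), -a ∉ RS cs h X (cj k⁻¹ H) → 0 ≤ a := by
    intro a ha ha'
    have h1 := hpos _ ((RS_cj R hk).1 ha) (fun h2 => ha' ((RS_cj R hk).2 (by rwa [map_neg])))
    rwa [rep_inv_apply] at h1
  have hU : H ⊓ cj k (RGD.Sup X (RGD.Pos cs h)) = cj k (RGD.Sup X (SP cs h X (cj k⁻¹ H))) := by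
    rw [← inf_U R D hTH']
    ext g
    rw [mem_cj, Subgroup.mem_inf, Subgroup.mem_inf, mem_cj, mem_cj]
    have : k⁻¹⁻¹ * (k⁻¹ * g * k) * k⁻¹ = g := by group
    rw [this]
  refine ⟨w, k, hk, hpos, ?_, ?_, ?_⟩
  · rw [hU]
    apply le_antisymm
    · exact cj_Sup_le R hk (S := SP cs h X (cj k⁻¹ H)) (fun x hx => hx.1.1)
        (fun x hx => ⟨(RS_cj R hk).1 hx.1, by rw [rep_inv_apply]; exact hx.2⟩)
    · refine RGD.Sup_le fun x hx => ?_
      have h1 : X x = cj k (X (rep cs h w⁻¹ x)) := by rw [R.conj_rp hk (hx.1.1.act _), rep_apply_inv]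
      rw [h1]
      exact cj_mono k (RGD.le_Sup (S := SP cs h X (cj k⁻¹ H))
        ⟨(RS_cj R hk).2 (by rw [rep_apply_inv]; exact hx.1), hx.2⟩)
  · intro g hg
    obtain ⟨u, hu, v, hv, m, hm, hmv, u', hu', e⟩ := gam_of_mem R D hTH' hpos' (g := k⁻¹ * g * k) (by
      rw [G0_cj R hk, mem_cj]
      have : k⁻¹⁻¹ * (k⁻¹ * g * k) * k⁻¹ = g := by group
      rwa [this])
    refine ⟨k * u * k⁻¹, ?_, w * v * w⁻¹, WS_cj R hk (W0_le_WS hv), k * m * k⁻¹, ?_, (hk.mul hmv).mul hk.inv,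
      k * u' * k⁻¹, ?_, ?_⟩
    · rw [hU]; exact conj_mem_cj.2 hu
    · rw [G0_cj R hk, mem_cj, inv_inv] at hm
      exact hm
    · rw [hU]; exact conj_mem_cj.2 hu'
    · calc g = k * (k⁻¹ * g * k) * k⁻¹ := by group
        _ = _ := by rw [e]; group
  · intro P hP hUP hPH
    have h1 := sylow_pos R D hTH' hpos' (P := cj k⁻¹ P) (hP.map _) (by
      rw [hU] at hUP
      have h2 := cj_mono k⁻¹ hUP
      rwa [cj_inv_cj] at h2) (by
      rw [G0_cj R hk]
      exact cj_mono _ hPH)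
    rw [hU, ← h1, cj_cj_inv]

end

end Cfsg.Agent.H460.OT
end

-- part: H460/OT/BruConc
section
/-!
helper460 (S2539, layer 0). The structure of `G(S_F) = GS D K (SF D K F)` for `T ≤ F`, `S_F` closed; concrete form.

* `chainRoot_of_vec` : if `r + s` is a root then it is given by `D.chainRoot r s 1`;
* `GS_struct` : there is a `T`-invariant Sylow `p`-subgroup `P` of `GS D K (SF D K F)`, a product of root subgroups, and
  `GS = P N P`, `N = GS ⊓ N(T)` (Bruhat decomposition);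
* `GS_norm` : `GS ⊓ N(T)` is generated by `T` and the groups `⟨X_r, X_{-r}⟩ ⊓ N(T)`, `±r ∈ S_F`;
* `sylow_of_gen` : a group `E` generated by root subgroups has a `T`-invariant Sylow `p`-subgroup which is a
  product of root subgroups.
-/

set_option autoImplicit false
set_option linter.unusedSectionVars false

namespace Cfsg.Agent.H460.OT

open CoxeterSystem Cfsg.Agent.ChevalleyStructure.CoxeterGeom Cfsg.Agent.Tits.Roots Cfsg.Agent.Tits.Core
  Cfsg.Agent.Tits.RootComb Cfsg.Agent.Tits.Exchange Cfsg.Agent.Nodes.Reps Cfsg.Agent.Nodes.BNOf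
  Cfsg.Agent.Nodes.StabComb Cfsg.Agent.Nodes.Bruhat Cfsg.Agent.Nodes.OppDec Cfsg.Agent.Nodes.LeviDec
  Cfsg.Agent.KFacts.RgdPar Cfsg.Agent.KFacts.RgdBorelTits
open Cfsg.Lie Cfsg.Agent.ChevalleyStructure Cfsg.Agent.ChevalleyStructure.Elts
  Cfsg.Agent.ChevalleyStructure.RootVec Cfsg.Agent.ChevalleyStructure.RootVecTab
  Cfsg.Agent.ChevalleyStructure.NPerm Cfsg.Agent.ChevalleyStructure.CoxeterGeomTypes
open Cfsg.Agent.Nodes Cfsg.Agent.Nodes.RGDChev Cfsg.Agent.H412.OT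

universe u

section Comb

variable {D : ChevalleyDatum} {l : ℕ} {M : CoxeterMatrix (Fin l)} (hp : IsType D l M)

include hp

theorem vec_of_chainRoot {r s u : ℕ} (hu : D.chainRoot r s 1 = some u) :
    u < D.nroots ∧ vec D l u = vec D l s + vec D l r := by
  obtain ⟨h1, -, -, h2⟩ := chainRoot_rt hp.checked (le_refl 1) hu
  refine ⟨h1, funext fun i => ?_⟩
  rw [Pi.add_apply, vec_apply, vec_apply, vec_apply, h2]
  norm_num

theorem cartanR_add {r s u : ℕ} (hr : r < D.nroots) (hs : s < D.nroots) (hu : u < D.nroots)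
    (e : vec D l u = vec D l r + vec D l s) (t : ℕ) :
    Strings.cartanR D t u = Strings.cartanR D t r + Strings.cartanR D t s := by
  unfold Strings.cartanR
  rw [← Finset.sum_add_distrib]
  refine Finset.sum_congr rfl fun i hi => ?_
  have hi' : i < l := by rw [← hp.rank_eq]; exact Finset.mem_range.1 hi
  have h1 := pairing_vec hp ⟨i, hi'⟩ hu
  have h2 := pairing_vec hp ⟨i, hi'⟩ hr
  have h3 := pairing_vec hp ⟨i, hi'⟩ hs
  have h4 : pairing (cartanOf D l) ⟨i, hi'⟩ (vec D l r + vec D l s) =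
      pairing (cartanOf D l) ⟨i, hi'⟩ (vec D l r) + pairing (cartanOf D l) ⟨i, hi'⟩ (vec D l s) := by
    unfold pairing
    rw [← Finset.sum_add_distrib]
    exact Finset.sum_congr rfl fun j _ => by rw [Pi.add_apply, mul_add]
  rw [e, h4, h2, h3] at h1
  show _ * D.cartan i u = _ * D.cartan i r + _ * D.cartan i s
  rw [← mul_add]
  congr 1
  exact h1.symm

theorem chainRoot_up {r q : ℕ} {S : ℕ → ℕ} {E : ℕ → ℤ} (h : Strings.StringAt D r q S E) {k : ℕ} (hk : k < q) :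
    D.chainRoot r (S k) 1 = some (S (k + 1)) := by
  have h1 := h.up k hk.le
  show ((D.chainEntry r (S k))[1 - 1]?).map Prod.fst = _
  rw [h1]
  have h2 : 0 < q - k := by omega
  simp [List.getElem?_map, List.getElem?_range h2]

/-- If `r + s` is a root then `D.chainRoot r s 1` is its index. -/
theorem chainRoot_of_vec (hD : D ∈ [chevG2, chevB2, chevD4, chevF4, chevE6, chevE7, chevE8]) {r s u : ℕ}
    (hr : r < D.nroots) (hs : s < D.nroots) (hu : u < D.nroots)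
    (e : vec D l u = vec D l r + vec D l s) : D.chainRoot r s 1 = some u := by
  have hfin : Finite M.Group := finite_W hp M.toCoxeterSystem
  have hroot : ∀ {t : ℕ}, t < D.nroots → IsRoot M.toCoxeterSystem hp.isCartan (vec D l t) :=
    fun ht => isRoot_vec hp M.toCoxeterSystem ht
  have two : ∀ {t v : ℕ}, t < D.nroots → v < D.nroots → ∀ c : ℤ, vec D l t = c • vec D l v → IsUnit c :=
    fun ht hv c h => isUnit_of_smul _ _ (hroot ht) c h
  have hnr := StringMem.rootOK_of_mem hD hr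
  have hvn : vec D l (D.neg r) = -vec D l r := vec_neg hp hr
  have hsr : s ≠ r := by
    rintro rfl
    have := two hu hs 2 (by rw [e, two_smul])
    exact absurd this (by decide)
  have hsn : s ≠ D.neg r := by
    intro h0
    have h1 : vec D l u = 0 := by rw [e, h0, hvn, add_neg_cancel]
    exact (hroot hu).ne_zero h1
  have hur : u ≠ r := by
    rintro rfl
    have h1 : vec D l s = 0 := by
      have := e
      rwa [left_eq_add] at this
    exact (hroot hs).ne_zero h1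
  have hun : u ≠ D.neg r := by
    intro h0
    have h1 : vec D l s = (-2 : ℤ) • vec D l r := by
      have h2 : vec D l s = vec D l u - vec D l r := by rw [e]; abel
      rw [h2, h0, hvn]
      module
    have := two hs hr (-2) h1
    exact absurd this (by decide)
  have hStr := StringMem.hasStrings_of_mem hD hr
  obtain ⟨q, S, E, k, hst, hk, hSk, hc⟩ := hStr u hu hur hun
  by_cases hk0 : k = 0
  · obtain ⟨q', S', E', k', hst', hk', hSk', hc'⟩ := hStr s hs hsr hsn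
    have h1 := cartanR_add hp hr hs hu e r
    rw [hc, hc', hnr.cartan_self, hk0] at h1
    have h2 : k' < q' := by omega
    have h3 := chainRoot_up hp hst' h2
    rw [hSk'] at h3
    have h4 := vec_of_chainRoot hp h3
    rw [h3]
    congr 1
    refine vec_inj hp h4.1 hu ?_
    rw [h4.2, e, add_comm]
  · have h2 : k - 1 < q := by omega
    have h3 := chainRoot_up hp hst h2
    rw [show k - 1 + 1 = k by omega, hSk] at h3
    have h4 := vec_of_chainRoot hp h3
    have h5 : S (k - 1) = s := by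
      refine vec_inj hp (hst.lt _ (by omega)) hs ?_
      have h6 := h4.2
      rw [e, add_comm] at h6
      exact (add_right_cancel h6).symm
    rw [h5] at h3
    exact h3

end Comb

section Final

variable {D : ChevalleyDatum} {K : Type u} [Field K] [Finite K] {p : ℕ} [Fact p.Prime] [CharP K p]

theorem GS_SF_eq {l : ℕ} {M : CoxeterMatrix (Fin l)} (hp : IsType D l M) {W : Type*} [Group W]
    (cs : CoxeterSystem M W) (F : Subgroup (GL D.Idx K)) :
    G0 cs hp.isCartan (D.diagonalSubgroup K) (XV D l K) F = GS D K (SF D K F) := by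
  unfold G0 GS
  rw [Sup_RS hp cs]
  rfl

theorem add_of_closed {l : ℕ} {M : CoxeterMatrix (Fin l)} (hp : IsType D l M)
    (hD : D ∈ [chevG2, chevB2, chevD4, chevF4, chevE6, chevE7, chevE8]) {W : Type*} [Group W]
    (cs : CoxeterSystem M W) {F : Subgroup (GL D.Idx K)} (hcl : Closed D (SF D K F)) :
    ∀ x ∈ RS cs hp.isCartan (XV D l K) F, ∀ y ∈ RS cs hp.isCartan (XV D l K) F,
      IsRoot cs hp.isCartan (x + y) → x + y ∈ RS cs hp.isCartan (XV D l K) F := by
  intro x hx y hy hxy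
  obtain ⟨r, hr, rfl⟩ := (isRoot_iff hp cs x).1 hx.1
  obtain ⟨s, hs, rfl⟩ := (isRoot_iff hp cs y).1 hy.1
  obtain ⟨u, hu, e⟩ := (isRoot_iff hp cs _).1 hxy
  have h1 := chainRoot_of_vec hp hD hr hs hu e
  have h2 := hcl r ⟨hr, by rw [← XV_vec hp K hr]; exact hx.2⟩ s ⟨hs, by rw [← XV_vec hp K hs]; exact hy.2⟩ u h1
  refine ⟨hxy, ?_⟩
  rw [← e, XV_vec hp K hu]
  exact h2.2

/-- **(BRU)** The structure of `G(S_F)`: a `T`-invariant Sylow `p`-subgroup `P`, and the Bruhat decomposition. -/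
theorem GS_struct (hD : D ∈ [chevG2, chevB2, chevD4, chevF4, chevE6, chevE7, chevE8]) (hK : 13 ≤ Nat.card K)
    {F : Subgroup (GL D.Idx K)} (hTF : D.diagonalSubgroup K ≤ F) (hcl : Closed D (SF D K F)) :
    ∃ P : Subgroup (GL D.Idx K), P ≤ GS D K (SF D K F) ∧ IsPGroup p ↥P ∧
      D.diagonalSubgroup K ≤ Subgroup.normalizer (P : Set (GL D.Idx K)) ∧
      (P = ⨆ r ∈ {r : ℕ | r < D.nroots ∧ D.rootSubgroup K r ≤ P}, D.rootSubgroup K r) ∧
      (∀ r ∈ SF D K F, D.neg r ∉ SF D K F → D.rootSubgroup K r ≤ P) ∧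
      (∀ r ∈ SF D K F, D.rootSubgroup K r ≤ P ∨ D.rootSubgroup K (D.neg r) ≤ P) ∧
      (∀ P' : Subgroup (GL D.Idx K), IsPGroup p ↥P' → P ≤ P' → P' ≤ GS D K (SF D K F) → P' = P) ∧
      ∀ g ∈ GS D K (SF D K F), ∃ u ∈ P, ∃ m ∈ GS D K (SF D K F), 
        m ∈ Subgroup.normalizer (D.diagonalSubgroup K : Set (GL D.Idx K)) ∧ ∃ v ∈ P, g = u * m * v := by
  obtain ⟨l, M, hp⟩ := exists_type hD
  have : Finite (GL D.Idx K) := inferInstance
  have : Finite M.Group := finite_W hp M.toCoxeterSystem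
  obtain ⟨z, hz⟩ := td hp M.toCoxeterSystem p hK
  have R := rgd_GL (K := K) hp M.toCoxeterSystem p
  obtain ⟨w, k, hk, h1, h2, h3, h4⟩ := struct_gen R hz hTF (add_of_closed hp hD M.toCoxeterSystem hcl)
  set cs := M.toCoxeterSystem with hcs
  set P : Subgroup (GL D.Idx K) := F ⊓ cj k (RGD.Sup (XV D l K) (RGD.Pos cs hp.isCartan)) with hP
  have hPle : P ≤ G0 cs hp.isCartan (D.diagonalSubgroup K) (XV D l K) F := by
    rw [h2]
    exact RGD.Sup_le fun x hx => X_le_G0 hx.1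
  rw [GS_SF_eq hp cs] at hPle h3 h4
  have hPp : IsPGroup p ↥P := by
    have h5 : IsPGroup p ↥(cj k (RGD.Sup (XV D l K) (RGD.Pos cs hp.isCartan))) := R.isPGroup_Upos.map _
    exact h5.to_le inf_le_right
  have hTP : D.diagonalSubgroup K ≤ Subgroup.normalizer (P : Set (GL D.Idx K)) := by
    rw [h2]
    exact R.T_le_normalizer fun x hx => hx.1.1
  have hroot : ∀ r ∈ SF D K F, vec D l r ∈ RS cs hp.isCartan (XV D l K) F := fun r hr =>
    ⟨isRoot_vec hp cs hr.1, by rw [XV_vec hp K hr.1]; exact hr.2⟩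
  have hin : ∀ r ∈ SF D K F, 0 ≤ rep cs hp.isCartan w⁻¹ (vec D l r) → D.rootSubgroup K r ≤ P := by
    intro r hr h0
    rw [h2, ← XV_vec hp K hr.1]
    exact RGD.le_Sup (S := {x | x ∈ RS cs hp.isCartan (XV D l K) F ∧ 0 ≤ rep cs hp.isCartan w⁻¹ x})
      ⟨hroot r hr, h0⟩
  have hnsf : ∀ r ∈ SF D K F, -vec D l r ∈ RS cs hp.isCartan (XV D l K) F → D.neg r ∈ SF D K F := by
    intro r hr h5
    have hn := (StringMem.rootOK_of_mem hD hr.1).neg_lt
    refine ⟨hn, ?_⟩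
    rw [← XV_vec hp K hn, vec_neg hp hr.1]
    exact h5.2
  have hneg : ∀ r ∈ SF D K F, D.neg r ∉ SF D K F → D.rootSubgroup K r ≤ P := fun r hr hr' =>
    hin r hr (h1 _ (hroot r hr) fun h5 => hr' (hnsf r hr h5))
  refine ⟨P, hPle, hPp, hTP, ?_, hneg, ?_, h4, ?_⟩
  · apply le_antisymm
    · conv_lhs => rw [h2]
      refine RGD.Sup_le fun x hx => ?_
      obtain ⟨r, hr, rfl⟩ := (isRoot_iff hp cs x).1 hx.1.1
      have h5 : r ∈ SF D K F := ⟨hr, by rw [← XV_vec hp K hr]; exact hx.1.2⟩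
      rw [XV_vec hp K hr]
      exact le_iSup₂ (f := fun r (_ : r ∈ {r : ℕ | r < D.nroots ∧ D.rootSubgroup K r ≤ P}) => D.rootSubgroup K r)
        r ⟨hr, hin r h5 hx.2⟩
    · exact iSup₂_le fun r hr => hr.2
  · intro r hr
    by_cases hr' : D.neg r ∈ SF D K F
    · rcases ((isRoot_vec hp cs hr.1).act w⁻¹).pos_or_neg with h0 | h0
      · exact Or.inl (hin r hr h0)
      · refine Or.inr (hin _ hr' ?_)
        rw [vec_neg hp hr.1, map_neg]
        exact neg_nonneg.2 h0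
    · exact Or.inl (hneg r hr hr')
  · intro g hg
    obtain ⟨u, hu, v, -, m, hm, hmv, u', hu', e⟩ := h3 g hg
    exact ⟨u, hu, m, hm, hmv.mem_normalizer, u', hu', e⟩

theorem mem_of_sup {Y : Type*} [Group Y] {T E : Subgroup Y} (hT : T ≤ Subgroup.normalizer (E : Set Y)) {p : ℕ}
    (hcop : (Nat.card T).Coprime p) {g : Y} (hg : g ∈ T ⊔ E) {k : ℕ} (hk : g ^ p ^ k = 1) : g ∈ E := by
  have h1 : g ∈ ((T ⊔ E : Subgroup Y) : Set Y) := hg
  rw [Subgroup.coe_mul_of_left_le_normalizer_right _ _ hT, Set.mem_mul] at h1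
  obtain ⟨t, ht, u, hu, e⟩ := h1
  set N : Subgroup Y := Subgroup.normalizer (E : Set Y) with hN
  have htN : t ∈ N := hT ht
  have huN : u ∈ N := Subgroup.le_normalizer hu
  have hxN : g ∈ N := by rw [← e]; exact mul_mem htN huN
  have : (E.subgroupOf N).Normal := Subgroup.normal_in_normalizer
  have h1 : (QuotientGroup.mk ⟨t, htN⟩ : ↥N ⧸ E.subgroupOf N) = QuotientGroup.mk ⟨g, hxN⟩ := by
    rw [QuotientGroup.eq, Subgroup.mem_subgroupOf]
    have h2 : t⁻¹ * g = u := by rw [← e]; group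
    change t⁻¹ * g ∈ _
    rw [h2]; exact hu
  have h2 : orderOf (QuotientGroup.mk ⟨g, hxN⟩ : ↥N ⧸ E.subgroupOf N) ∣ p ^ k := by
    apply orderOf_dvd_of_pow_eq_one
    rw [← QuotientGroup.mk_pow]
    have : (⟨g, hxN⟩ : ↥N) ^ p ^ k = 1 := Subtype.ext hk
    rw [this, QuotientGroup.mk_one]
  have h3 : orderOf (QuotientGroup.mk ⟨g, hxN⟩ : ↥N ⧸ E.subgroupOf N) ∣ Nat.card T := by
    apply orderOf_dvd_of_pow_eq_one
    rw [← h1, ← QuotientGroup.mk_pow]
    have h4 : (⟨t, ht⟩ : ↥T) ^ Nat.card T = 1 := pow_card_eq_one'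
    have : (⟨t, htN⟩ : ↥N) ^ Nat.card T = 1 := Subtype.ext (by
      have h5 := congrArg Subtype.val h4
      rwa [SubgroupClass.coe_pow] at h5)
    rw [this, QuotientGroup.mk_one]
  have h4 : orderOf (QuotientGroup.mk ⟨g, hxN⟩ : ↥N ⧸ E.subgroupOf N) = 1 := by
    have hc : (p ^ k).Coprime (Nat.card T) := (Nat.Coprime.pow_left k hcop.symm)
    exact Nat.dvd_one.1 (hc ▸ Nat.dvd_gcd h2 h3)
  rw [orderOf_eq_one_iff, QuotientGroup.eq_one_iff, Subgroup.mem_subgroupOf] at h4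
  exact h4

/-- A group `E` generated by root subgroups has a `T`-invariant Sylow `p`-subgroup, which is a product of root
subgroups. -/
theorem sylow_of_gen (hD : D ∈ [chevG2, chevB2, chevD4, chevF4, chevE6, chevE7, chevE8]) (hK : 13 ≤ Nat.card K)
    {E : Subgroup (GL D.Idx K)} (hE : E ≤ DF D K E)
    (hcl : Closed D (SF D K (D.diagonalSubgroup K ⊔ E))) :
    ∃ P : Subgroup (GL D.Idx K), P ≤ E ∧ IsPGroup p ↥P ∧
      D.diagonalSubgroup K ≤ Subgroup.normalizer (P : Set (GL D.Idx K)) ∧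
      (P = ⨆ r ∈ {r : ℕ | r < D.nroots ∧ D.rootSubgroup K r ≤ P}, D.rootSubgroup K r) ∧
      (∀ r ∈ SF D K E, D.rootSubgroup K r ≤ P ∨ D.rootSubgroup K (D.neg r) ≤ P) ∧
      (∀ P' : Subgroup (GL D.Idx K), IsPGroup p ↥P' → P ≤ P' → P' ≤ E → P' = P) := by
  obtain ⟨l, M, hp⟩ := exists_type hD
  have : Finite (GL D.Idx K) := inferInstance
  have R := rgd_GL (K := K) hp M.toCoxeterSystem p
  set T := D.diagonalSubgroup K with hT
  have hTE : T ≤ Subgroup.normalizer (E : Set (GL D.Idx K)) := by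
    have h1 : E = RGD.Sup (XV D l K) (RS M.toCoxeterSystem hp.isCartan (XV D l K) E) := by
      rw [Sup_RS hp]
      exact le_antisymm hE (DF_le E)
    rw [h1]
    exact R.T_le_normalizer fun x hx => hx.1
  have hXp : ∀ r < D.nroots, IsPGroup p ↥(D.rootSubgroup K r) := fun r hr => by
    have : Finite M.Group := finite_W hp M.toCoxeterSystem
    rw [← XV_vec hp K hr]
    exact R.pgrp' (isRoot_vec hp M.toCoxeterSystem hr)
  have hpE : ∀ Q : Subgroup (GL D.Idx K), IsPGroup p ↥Q → Q ≤ T ⊔ E → Q ≤ E := by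
    intro Q hQ hQE g hg
    obtain ⟨k, hk⟩ := hQ ⟨g, hg⟩
    refine mem_of_sup hTE R.tcop (hQE hg) (k := k) ?_
    have := congrArg Subtype.val hk
    rwa [SubgroupClass.coe_pow] at this
  have hSF : SF D K (T ⊔ E) = SF D K E := by
    refine Set.Subset.antisymm (fun r hr => ⟨hr.1, hpE _ (hXp r hr.1) hr.2⟩) (SF_mono le_sup_right)
  have hGS : GS D K (SF D K (T ⊔ E)) = T ⊔ E := by
    rw [hSF]
    have h1 : (⨆ r ∈ SF D K E, D.rootSubgroup K r) = E := le_antisymm (DF_le E) hE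
    unfold GS
    rw [h1]
  obtain ⟨P, h1, h2, h3, h4, h5, h6, h7, -⟩ := GS_struct (p := p) hD hK (F := T ⊔ E) le_sup_left hcl
  rw [hGS] at h1 h7
  rw [hSF] at h6
  exact ⟨P, hpE P h2 h1, h2, h3, h4, h6, fun P' hP' hle hP'E => h7 P' hP' hle (le_trans hP'E le_sup_right)⟩

end Final

end Cfsg.Agent.H460.OT
end
end
end
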